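import Cfsg.Agent.Lib.Schur.Perfect
import Cfsg.Agent.Lib.LinearGroup.Card
import Cfsg.Agent.Lib.LinearGroup.Simple

/-!
The multiplier of a quotient of a perfect group with trivial multiplier by a cyclic central subgroup;
in particular PSL from SL (helper28).
-/

set_option autoImplicit false

namespace Cfsg.Agent.CharB.PSLMult

open Subgroup

universe u v

theorem eq_top_of_sup_center {Γ : Type u} [Group Γ] (hP : commutator Γ = ⊤) {H : Subgroup Γ}
    (h : H ⊔ center Γ = ⊤) : H = ⊤ := by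
  rw [eq_top_iff, ← hP, _root_.commutator_def, Subgroup.commutator_le]
  intro x _ y _
  have key : ∀ z : Γ, ∃ a ∈ H, ∃ c ∈ center Γ, z = a * c := fun z => by
    obtain ⟨a, ha, c, hc, e⟩ := Subgroup.mem_sup_of_normal_right.1 (h ▸ Subgroup.mem_top z)
    exact ⟨a, ha, c, hc, e.symm⟩
  obtain ⟨a, ha, c, hc, rfl⟩ := key x
  obtain ⟨b, hb, d, hd, rfl⟩ := key y
  rw [Cfsg.Agent.Schur.commutatorElement_mul_central hc hd, commutatorElement_def]
  exact H.mul_mem (H.mul_mem (H.mul_mem ha hb) (H.inv_mem ha)) (H.inv_mem hb)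

/-- A perfect group with trivial multiplier is the Schur cover of its central quotients. -/
theorem hasCyclicSchurMultiplier_of_cover {S : Type v} {Q : Type u} [Group S] [Group Q] [Finite S]
    [Finite Q] (hS : Group.IsPerfect S) (h1 : Cfsg.HasCyclicSchurMultiplier S 1) (π : S →* Q)
    (hπ : Function.Surjective π) (hc : π.ker ≤ center S) [IsCyclic π.ker] {n : ℕ}
    (hn : Nat.card π.ker = n) : Cfsg.HasCyclicSchurMultiplier Q n := by
  have hn0 : 0 < n := hn ▸ Nat.card_pos
  haveI : NeZero n := ⟨hn0.ne'⟩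
  have hstem : Cfsg.IsStemExtension π :=
    ⟨hπ, hc, fun x _ => Group.IsPerfect.mem_commutator (hP := hS)⟩
  have hQ : commutator Q = ⊤ := by
    have := congrArg (Subgroup.map π) (Group.IsPerfect.commutator_eq_top (G := S) (self := hS))
    rwa [_root_.commutator_def, map_commutator, Subgroup.map_top_of_surjective π hπ,
      ← _root_.commutator_def] at this
  refine Cfsg.Agent.Schur.hasSchurMultiplier_of_card_le π hstem
    (mulEquivOfCyclicCardEq (by rw [hn]; simp)) ?_
  intro Γ _ _ σ hσ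
  obtain ⟨η, hη⟩ := Cfsg.Agent.Schur.exists_lift_of_trivial hS h1 π σ hσ.1 hσ.2.1
  have hΓ : commutator Γ = ⊤ :=
    (Cfsg.Agent.Schur.isPerfect_of_stem ⟨hQ⟩ σ hσ).commutator_eq_top
  have hsup : η.range ⊔ center Γ = ⊤ := by
    rw [eq_top_iff]
    intro g _
    obtain ⟨s, hs⟩ := hπ (σ g)
    have hs' : σ (η s) = σ g := by rw [← MonoidHom.comp_apply, hη, hs]
    have hz : (η s)⁻¹ * g ∈ center Γ := hσ.2.1 (by simp [MonoidHom.mem_ker, hs'])
    have e : g = η s * ((η s)⁻¹ * g) := by group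
    rw [e]
    exact Subgroup.mul_mem_sup ⟨s, rfl⟩ hz
  have htop := eq_top_of_sup_center hΓ hsup
  have hle : σ.ker ≤ π.ker.map η := fun g hg => by
    obtain ⟨s, rfl⟩ : g ∈ η.range := htop ▸ Subgroup.mem_top g
    refine ⟨s, ?_, rfl⟩
    show π s = 1
    rw [← hη]; exact hg
  calc Nat.card σ.ker ≤ Nat.card (π.ker.map η) := Subgroup.card_le_of_le hle
    _ ≤ Nat.card π.ker := Nat.le_of_dvd Nat.card_pos (Subgroup.card_map_dvd _ η)
    _ = Nat.card (Multiplicative (ZMod n)) := by rw [hn]; simp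

/-- `PSL` from `SL`. -/
theorem psl_of_sl {ι : Type} [Fintype ι] [DecidableEq ι] [Nonempty ι] {F : Type v} [Field F]
    [Finite F] (hperf : Fintype.card ι = 2 → ∃ a : F, a ≠ 0 ∧ a ^ 2 ≠ 1)
    (h1 : Cfsg.HasCyclicSchurMultiplier (Matrix.SpecialLinearGroup ι F) 1) :
    Cfsg.HasCyclicSchurMultiplier (Matrix.ProjectiveSpecialLinearGroup ι F)
      (Nat.gcd (Fintype.card ι) (Nat.card F - 1)) := by
  haveI := Fintype.ofFinite F
  let π : Matrix.SpecialLinearGroup ι F →* Matrix.ProjectiveSpecialLinearGroup ι F :=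
    QuotientGroup.mk' _
  have hk : π.ker = center (Matrix.SpecialLinearGroup ι F) := QuotientGroup.ker_mk' _
  have hcyc : IsCyclic (center (Matrix.SpecialLinearGroup ι F)) :=
    isCyclic_of_injective
      (Matrix.SpecialLinearGroup.center_equiv_rootsOfUnity' (R := F)
        (Classical.arbitrary ι)).toMonoidHom
      (Matrix.SpecialLinearGroup.center_equiv_rootsOfUnity' (R := F)
        (Classical.arbitrary ι)).injective
  haveI : IsCyclic π.ker := by rw [hk]; exact hcyc
  refine hasCyclicSchurMultiplier_of_cover ⟨LinearGroup.commutator_SL_eq_top' hperf⟩ h1 π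
    (QuotientGroup.mk'_surjective _) hk.le ?_
  rw [hk, LinearGroup.card_center_SL]

end Cfsg.Agent.CharB.PSLMult
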