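import Cfsg.Agent.Lib.Schur.Basic
import Cfsg.Agent.Lib.LinearGroup.Generation
import Mathlib.Tactic.Group

/-!
Commutators of lifts in a central extension, and elementary transvections with total indices (helper28).
-/

set_option autoImplicit false

namespace Cfsg.Agent.CharB.PSLMult

open scoped commutatorElement

universe u v w

section Ext

variable {Γ : Type u} [Group Γ] {G : Type v} [Group G]

/-- A surjection with central kernel. -/
structure CEx (σ : Γ →* G) : Prop where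
  surj : Function.Surjective σ
  central : σ.ker ≤ Subgroup.center Γ

variable {σ : Γ →* G}

/-- A chosen preimage. -/
noncomputable def CEx.s (E : CEx σ) (x : G) : Γ := Function.surjInv E.surj x

theorem CEx.map_s (E : CEx σ) (x : G) : σ (E.s x) = x := Function.surjInv_eq E.surj x

theorem CEx.exists_central (E : CEx σ) {a a' : Γ} (h : σ a = σ a') :
    ∃ z ∈ Subgroup.center Γ, a = a' * z :=
  ⟨a'⁻¹ * a, E.central (by simp [MonoidHom.mem_ker, h]), by group⟩

/-- The commutator of preimages. -/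
noncomputable def CEx.cm (E : CEx σ) (x y : G) : Γ := ⁅E.s x, E.s y⁆

theorem CEx.cm_eq (E : CEx σ) (a b : Γ) : ⁅a, b⁆ = E.cm (σ a) (σ b) := by
  obtain ⟨z, hz, ha⟩ := E.exists_central (a := a) (a' := E.s (σ a)) (E.map_s _).symm
  obtain ⟨w, hw, hb⟩ := E.exists_central (a := b) (a' := E.s (σ b)) (E.map_s _).symm
  conv_lhs => rw [ha, hb]
  rw [Cfsg.Agent.Schur.commutatorElement_mul_central hz hw]
  rfl

theorem CEx.map_cm (E : CEx σ) (x y : G) : σ (E.cm x y) = ⁅x, y⁆ := by
  rw [cm, map_commutatorElement, E.map_s, E.map_s]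

theorem CEx.cm_inv (E : CEx σ) (x y : G) : (E.cm x y)⁻¹ = E.cm y x := commutatorElement_inv _ _

theorem CEx.cm_self (E : CEx σ) (x : G) : E.cm x x = 1 := commutatorElement_self _

theorem CEx.cm_one_left (E : CEx σ) (y : G) : E.cm 1 y = 1 := by
  have := E.cm_eq 1 (E.s y)
  rw [map_one, E.map_s, commutatorElement_one_left] at this
  exact this.symm

theorem CEx.cm_one_right (E : CEx σ) (y : G) : E.cm y 1 = 1 := by
  rw [← E.cm_inv, E.cm_one_left, inv_one]

theorem CEx.cm_mem_center (E : CEx σ) {x y : G} (h : Commute x y) :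
    E.cm x y ∈ Subgroup.center Γ :=
  E.central (by rw [MonoidHom.mem_ker, E.map_cm, commutatorElement_eq_one_iff_mul_comm.2 h.eq])

theorem CEx.commute_of_cm (E : CEx σ) {a b : Γ} (h : E.cm (σ a) (σ b) = 1) : Commute a b :=
  commutatorElement_eq_one_iff_mul_comm.1 ((E.cm_eq a b).trans h)

theorem CEx.cm_mul_left (E : CEx σ) (x x' y : G) :
    E.cm (x * x') y = E.s x * E.cm x' y * (E.s x)⁻¹ * E.cm x y := by
  have h := E.cm_eq (E.s x * E.s x') (E.s y)
  rw [map_mul, E.map_s, E.map_s, E.map_s] at h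
  rw [← h]
  simp only [CEx.cm, commutatorElement_def]
  group

theorem CEx.cm_mul_left' (E : CEx σ) {x x' y : G} (h : Commute x' y) :
    E.cm (x * x') y = E.cm x' y * E.cm x y := by
  rw [E.cm_mul_left, Subgroup.mem_center_iff.1 (E.cm_mem_center h) (E.s x), mul_inv_cancel_right]

theorem CEx.cm_inv_left (E : CEx σ) {x y : G} (h : Commute x y) : E.cm x⁻¹ y = (E.cm x y)⁻¹ := by
  refine eq_inv_of_mul_eq_one_left ?_
  rw [← E.cm_mul_left' h.inv_left, mul_inv_cancel, E.cm_one_left]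

theorem CEx.cm_inv_right (E : CEx σ) {x y : G} (h : Commute x y) : E.cm x y⁻¹ = (E.cm x y)⁻¹ := by
  rw [← E.cm_inv, E.cm_inv_left h.symm, E.cm_inv y x]

theorem CEx.cm_pow_left (E : CEx σ) {x y : G} (h : Commute x y) :
    ∀ k : ℕ, E.cm (x ^ k) y = E.cm x y ^ k
  | 0 => by rw [pow_zero, pow_zero, E.cm_one_left]
  | k + 1 => by rw [pow_succ, E.cm_mul_left' h, E.cm_pow_left h k, ← pow_succ']

theorem CEx.conj_cm (E : CEx σ) (g : Γ) (x y : G) :
    g * E.cm x y * g⁻¹ = E.cm (σ g * x * (σ g)⁻¹) (σ g * y * (σ g)⁻¹) := by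
  have h := E.cm_eq (g * E.s x * g⁻¹) (g * E.s y * g⁻¹)
  simp only [map_mul, map_inv, E.map_s] at h
  rw [← h]
  simp only [CEx.cm, commutatorElement_def]
  group

theorem CEx.cm_conj (E : CEx σ) {x y : G} (h : Commute x y) (g : G) :
    E.cm (g * x * g⁻¹) (g * y * g⁻¹) = E.cm x y := by
  have h1 := E.conj_cm (E.s g) x y
  rw [E.map_s, Subgroup.mem_center_iff.1 (E.cm_mem_center h) (E.s g), mul_inv_cancel_right] at h1
  exact h1.symm

/-- The three-element identity. -/
theorem CEx.mid (E : CEx σ) {a b c : Γ} (hac : Commute (σ a) (σ c))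
    (hxy : Commute ⁅c, b⁆ ⁅a, b⁆) : ⁅c, ⁅a, b⁆⁆ = ⁅a, ⁅c, b⁆⁆ := by
  have hz : ⁅c, a⁆ ∈ Subgroup.center Γ := by
    rw [E.cm_eq]; exact E.cm_mem_center hac.symm
  have e1 : c * a * c⁻¹ = a * ⁅c, a⁆ := by
    rw [Subgroup.mem_center_iff.1 hz a, commutatorElement_def]; group
  have e2 : c * b * c⁻¹ = ⁅c, b⁆ * b := by rw [commutatorElement_def]; group
  have e3 : c * ⁅a, b⁆ * c⁻¹ = ⁅a, ⁅c, b⁆⁆ * ⁅a, b⁆ := by
    have h1 : c * ⁅a, b⁆ * c⁻¹ = ⁅c * a * c⁻¹, c * b * c⁻¹⁆ := by
      simp only [commutatorElement_def]; group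
    have h2 : ⁅a * ⁅c, a⁆, ⁅c, b⁆ * b⁆ = ⁅a, ⁅c, b⁆ * b⁆ := by
      conv_lhs => rw [← mul_one (⁅c, b⁆ * b)]
      rw [Cfsg.Agent.Schur.commutatorElement_mul_central hz (Subgroup.one_mem _)]
    rw [h1, e1, e2, h2]
    have h3 : ⁅a, ⁅c, b⁆ * b⁆ = ⁅a, ⁅c, b⁆⁆ * (⁅c, b⁆ * ⁅a, b⁆ * ⁅c, b⁆⁻¹) := by
      generalize ⁅c, b⁆ = x
      simp only [commutatorElement_def]; group
    rw [h3, hxy.eq, mul_inv_cancel_right]
  rw [commutatorElement_def c, e3, mul_inv_cancel_right]

end Ext

section Transvections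

open Matrix

variable {ι : Type w} [Fintype ι] [DecidableEq ι] {F : Type v} [Field F]

/-- The transvection at `(i, j)`, trivial on the diagonal. -/
def T (i j : ι) (t : F) : SpecialLinearGroup ι F :=
  if h : i = j then 1 else SpecialLinearGroup.transvection h t

theorem T_of_ne {i j : ι} (h : i ≠ j) (t : F) : T i j t = SpecialLinearGroup.transvection h t := by
  rw [T, dif_neg h]

theorem T_coe {i j : ι} (h : i ≠ j) (t : F) :
    ((T i j t : SpecialLinearGroup ι F) : Matrix ι ι F) = 1 + Matrix.single i j t := by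
  rw [T_of_ne h, SpecialLinearGroup.transvection_coe]

theorem T_zero (i j : ι) : T i j (0 : F) = 1 := by
  by_cases h : i = j
  · rw [T, dif_pos h]
  · rw [T_of_ne h, SpecialLinearGroup.transvection_coeff_zero]

theorem T_add (i j : ι) (t u : F) : T i j (t + u) = T i j t * T i j u := by
  by_cases h : i = j
  · simp [T, dif_pos h]
  · rw [T_of_ne h, T_of_ne h, T_of_ne h, SpecialLinearGroup.transvection_add]

theorem T_neg (i j : ι) (t : F) : T i j (-t) = (T i j t)⁻¹ :=
  eq_inv_of_mul_eq_one_left (by rw [← T_add, neg_add_cancel, T_zero])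

theorem T_pow (i j : ι) (t : F) : ∀ k : ℕ, T i j t ^ k = T i j ((k : F) * t)
  | 0 => by rw [pow_zero, Nat.cast_zero, zero_mul, T_zero]
  | k + 1 => by rw [pow_succ, T_pow i j t k, ← T_add, Nat.cast_succ, add_mul, one_mul]

theorem T_commute {i j k l : ι} (hjk : j ≠ k) (hli : l ≠ i) (t u : F) :
    Commute (T i j t) (T k l u) := by
  by_cases hij : i = j
  · rw [T, dif_pos hij]; exact Commute.one_left _
  by_cases hkl : k = l
  · rw [show T k l u = 1 by rw [T, dif_pos hkl]]; exact Commute.one_right _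
  apply Subtype.ext
  show ((T i j t : SpecialLinearGroup ι F) : Matrix ι ι F) * ((T k l u : SpecialLinearGroup ι F) : Matrix ι ι F) =
    ((T k l u : SpecialLinearGroup ι F) : Matrix ι ι F) * ((T i j t : SpecialLinearGroup ι F) : Matrix ι ι F)
  rw [T_coe hij, T_coe hkl]
  simp only [mul_add, add_mul, mul_one, one_mul, Matrix.single_mul_single_of_ne _ _ _ _ hjk,
    Matrix.single_mul_single_of_ne _ _ _ _ hli, add_zero]
  abel

theorem T_comm {i k j : ι} (hik : i ≠ k) (hkj : k ≠ j) (hij : i ≠ j) (a b : F) :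
    ⁅T i k a, T k j b⁆ = T i j (a * b) := by
  rw [T_of_ne hik, T_of_ne hkj, T_of_ne hij]
  exact LinearGroup.commutator_transvection hik hkj hij a b

theorem T_comm' {i k j : ι} (hik : i ≠ k) (hkj : k ≠ j) (hij : i ≠ j) (a b : F) :
    ⁅T k j b, T i k a⁆ = T i j (-(a * b)) := by
  rw [← commutatorElement_inv, T_comm hik hkj hij, T_neg]

theorem T_mulVec_single {i j : ι} (hij : i ≠ j) (t : F) (k : ι) (c : F) :
    ((T i j t : SpecialLinearGroup ι F) : Matrix ι ι F) *ᵥ Pi.single k c =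
      Pi.single k c + (if k = j then Pi.single i (t * c) else 0) := by
  rw [T_coe hij, add_mulVec, one_mulVec]
  congr 1
  ext a
  by_cases hk : k = j
  · subst hk
    simp [mulVec, dotProduct, Matrix.single_apply, Pi.single_apply, eq_comm (a := i)]
  · simp [mulVec, dotProduct, Matrix.single_apply, Pi.single_apply, hk, Ne.symm hk]

/-- A diagonal element `a` at `p`, `a⁻¹` at `q`. -/
def dvec (p q : ι) (a : F) (m : ι) : F := (if m = p then a else 1) * (if m = q then a⁻¹ else 1)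

/-- The diagonal element of `SL`. -/
def dg (p q : ι) {a : F} (ha : a ≠ 0) : SpecialLinearGroup ι F :=
  ⟨Matrix.diagonal (dvec p q a), by
    rw [Matrix.det_diagonal]
    simp only [dvec, Finset.prod_mul_distrib]
    simp [ha]⟩

theorem dvec_ne {p q : ι} {a : F} (ha : a ≠ 0) (m : ι) : dvec p q a m ≠ 0 := by
  unfold dvec; split_ifs <;> simp [ha]

theorem dg_conj (p q : ι) {a : F} (ha : a ≠ 0) (i j : ι) (t : F) :
    dg p q ha * T i j t * (dg p q ha)⁻¹ =
      T i j (dvec p q a i * (dvec p q a j)⁻¹ * t) := by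
  rw [mul_inv_eq_iff_eq_mul]
  by_cases hij : i = j
  · simp [T, dif_pos hij]
  apply Subtype.ext
  show Matrix.diagonal (dvec p q a) * ((T i j t : SpecialLinearGroup ι F) : Matrix ι ι F) =
    ((T i j (dvec p q a i * (dvec p q a j)⁻¹ * t) : SpecialLinearGroup ι F) : Matrix ι ι F) *
      Matrix.diagonal (dvec p q a)
  rw [T_coe hij, T_coe hij, mul_add, add_mul, mul_one, one_mul]
  congr 1
  ext x y
  rw [Matrix.diagonal_mul, Matrix.mul_diagonal]
  simp only [Matrix.single_apply]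
  split_ifs with h
  · obtain ⟨rfl, rfl⟩ := h
    have := dvec_ne (p := p) (q := q) ha j
    field_simp
  · simp

end Transvections

end Cfsg.Agent.CharB.PSLMult
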