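import Mathlib.GroupTheory.Index
import Mathlib.GroupTheory.OrderOfElement
import Mathlib.Tactic.Group
import Mathlib.Tactic.Ring
import Mathlib.Tactic.Linarith

/-!
Lifts of `p`-elements in central extensions with kernel of order prime to `p` (helper28).
-/

set_option autoImplicit false

namespace Cfsg.Agent.CharB.PSLMult

universe u v

/-- `g` has `p`-power order. -/
def Pel {Γ : Type u} [Monoid Γ] (p : ℕ) (g : Γ) : Prop := ∃ k : ℕ, g ^ p ^ k = 1

variable {Γ : Type u} [Group Γ] {G : Type v} [Group G] {p : ℕ}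

theorem pel_one : Pel p (1 : Γ) := ⟨0, one_pow _⟩

theorem Pel.inv {g : Γ} : Pel p g → Pel p g⁻¹
  | ⟨k, hk⟩ => ⟨k, by rw [inv_pow, hk, inv_one]⟩

theorem Pel.conj {g : Γ} (h : Γ) : Pel p g → Pel p (h * g * h⁻¹)
  | ⟨k, hk⟩ => ⟨k, by rw [conj_pow, hk, mul_one, mul_inv_cancel]⟩

theorem Pel.mul {a b : Γ} (ha : Pel p a) (hb : Pel p b) (hc : Commute a b) : Pel p (a * b) := by
  obtain ⟨k, hk⟩ := ha
  obtain ⟨l, hl⟩ := hb
  exact ⟨k + l, by rw [hc.mul_pow, pow_add, pow_mul, hk, one_pow, one_mul, mul_comm, pow_mul, hl, one_pow]⟩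

theorem Pel.map (f : Γ →* G) {g : Γ} : Pel p g → Pel p (f g)
  | ⟨k, hk⟩ => ⟨k, by rw [← map_pow, hk, map_one]⟩

/-- The standing hypotheses: a central extension with kernel of order prime to `p`. -/
structure PExt (p : ℕ) (σ : Γ →* G) : Prop where
  prime : p.Prime
  surj : Function.Surjective σ
  central : σ.ker ≤ Subgroup.center Γ
  coprime : ¬ p ∣ Nat.card σ.ker

variable {σ : Γ →* G}

theorem PExt.ker_pel (E : PExt p σ) {z : Γ} (hz : z ∈ σ.ker) (hp : Pel p z) : z = 1 := by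
  obtain ⟨k, hk⟩ := hp
  have h1 : z ^ Nat.card σ.ker = 1 := congrArg Subtype.val (pow_card_eq_one' (x := (⟨z, hz⟩ : σ.ker)))
  have hco : Nat.Coprime (p ^ k) (Nat.card σ.ker) :=
    ((E.prime.coprime_iff_not_dvd).2 E.coprime).pow_left k
  have h2 := pow_gcd_eq_one.2 ⟨hk, h1⟩
  rwa [hco.gcd_eq_one, pow_one] at h2

theorem PExt.uniq (E : PExt p σ) {a b : Γ} (ha : Pel p a) (hb : Pel p b) (h : σ a = σ b) : a = b := by
  have hz : a * b⁻¹ ∈ σ.ker := by simp [MonoidHom.mem_ker, h]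
  have hc : Commute (a * b⁻¹) b := (Subgroup.mem_center_iff.1 (E.central hz) b).symm
  have hab : Commute a b := by
    have := hc.mul_left (Commute.refl b)
    rwa [inv_mul_cancel_right] at this
  exact mul_inv_eq_one.1 (E.ker_pel hz (ha.mul hb.inv hab.inv_right))

theorem PExt.exists_lift (E : PExt p σ) {x : G} (hx : Pel p x) : ∃ g : Γ, Pel p g ∧ σ g = x := by
  obtain ⟨g, rfl⟩ := E.surj x
  obtain ⟨k, hk⟩ := hx
  set m := Nat.card σ.ker with hm
  have hco : Nat.Coprime m (p ^ k) :=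
    (((E.prime.coprime_iff_not_dvd).2 E.coprime).pow_left k).symm
  have hz : g ^ p ^ k ∈ σ.ker := by rw [MonoidHom.mem_ker, map_pow, hk]
  have h1 : (g ^ p ^ k) ^ m = 1 :=
    congrArg Subtype.val (pow_card_eq_one' (x := (⟨_, hz⟩ : σ.ker)))
  have hgcd := Nat.gcd_eq_gcd_ab m (p ^ k)
  rw [hco.gcd_eq_one] at hgcd
  refine ⟨g ^ ((m : ℤ) * Nat.gcdA m (p ^ k)), ⟨k, ?_⟩, ?_⟩
  · have h1' : g ^ (((p ^ k : ℕ) : ℤ) * (m : ℤ)) = 1 := by
      rw [zpow_mul, zpow_natCast, zpow_natCast, h1]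
    rw [← zpow_natCast, ← zpow_mul,
      show (m : ℤ) * Nat.gcdA m (p ^ k) * ((p ^ k : ℕ) : ℤ) = ((p ^ k : ℕ) : ℤ) * m * Nat.gcdA m (p ^ k) by ring,
      zpow_mul, h1', one_zpow]
  · rw [map_zpow, show (m : ℤ) * Nat.gcdA m (p ^ k) = 1 - ((p ^ k : ℕ) : ℤ) * Nat.gcdB m (p ^ k) by
      push_cast at hgcd ⊢; linarith, zpow_sub, zpow_one, zpow_mul, zpow_natCast, hk, one_zpow, inv_one,
      mul_one]

/-- The `p`-element over `x`. -/
noncomputable def PExt.pl (E : PExt p σ) (x : G) (hx : Pel p x) : Γ := (E.exists_lift hx).choose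

theorem PExt.pel_pl (E : PExt p σ) {x : G} (hx : Pel p x) : Pel p (E.pl x hx) :=
  (E.exists_lift hx).choose_spec.1

theorem PExt.map_pl (E : PExt p σ) {x : G} (hx : Pel p x) : σ (E.pl x hx) = x :=
  (E.exists_lift hx).choose_spec.2

theorem PExt.commute (E : PExt p σ) {a b : Γ} (_ha : Pel p a) (hb : Pel p b)
    (h : Commute (σ a) (σ b)) : Commute a b := by
  refine (mul_inv_eq_iff_eq_mul).1 (E.uniq (hb.conj a) hb ?_)
  rw [map_mul, map_mul, h.eq, map_inv, mul_inv_cancel_right]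

/-- The subgroup generated by the `p`-elements over `X`. -/
def hat (p : ℕ) (σ : Γ →* G) (X : Subgroup G) : Subgroup Γ :=
  Subgroup.closure {g | Pel p g ∧ σ g ∈ X}

theorem mem_hat {X : Subgroup G} {g : Γ} (hg : Pel p g) (h : σ g ∈ X) : g ∈ hat p σ X :=
  Subgroup.subset_closure ⟨hg, h⟩

theorem hat_le_comap (X : Subgroup G) : hat p σ X ≤ X.comap σ :=
  (Subgroup.closure_le _).2 fun _ h => h.2

theorem PExt.map_hat (E : PExt p σ) {X : Subgroup G} {S : Set G} (hS : X ≤ Subgroup.closure S)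
    (hSX : ∀ x ∈ S, x ∈ X) (hSp : ∀ x ∈ S, Pel p x) : (hat p σ X).map σ = X := by
  refine le_antisymm (Subgroup.map_le_iff_le_comap.2 (hat_le_comap X)) (hS.trans ?_)
  rw [Subgroup.closure_le]
  intro x hx
  exact ⟨E.pl x (hSp x hx), mem_hat (E.pel_pl _) (by rw [E.map_pl]; exact hSX x hx), E.map_pl _⟩

theorem PExt.eq_top (E : PExt p σ) (hgen : Subgroup.closure {g : Γ | Pel p g} = ⊤) {H : Subgroup Γ}
    (hH : H.map σ = ⊤) : H = ⊤ := by
  have key : ∀ g, ∃ h ∈ H, ∃ z ∈ σ.ker, g = h * z := fun g => by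
    obtain ⟨h, hh, he⟩ : σ g ∈ H.map σ := hH ▸ Subgroup.mem_top _
    exact ⟨h, hh, h⁻¹ * g, by simp [MonoidHom.mem_ker, he], by group⟩
  rw [eq_top_iff, ← hgen, Subgroup.closure_le]
  intro g hg
  obtain ⟨h, hh, z, hz, rfl⟩ := key g
  obtain ⟨k, hk⟩ := hg
  have hc : Commute h z := Subgroup.mem_center_iff.1 (E.central hz) h
  rw [hc.mul_pow] at hk
  have h1 : z ^ p ^ k ∈ H := by
    rw [eq_inv_of_mul_eq_one_right hk]; exact H.inv_mem (H.pow_mem hh _)
  have h2 : z ^ Nat.card σ.ker = 1 :=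
    congrArg Subtype.val (pow_card_eq_one' (x := (⟨z, hz⟩ : σ.ker)))
  have hco : Nat.Coprime (p ^ k) (Nat.card σ.ker) :=
    ((E.prime.coprime_iff_not_dvd).2 E.coprime).pow_left k
  have h3 := Nat.gcd_eq_gcd_ab (p ^ k) (Nat.card σ.ker)
  rw [hco.gcd_eq_one] at h3
  have h4 : z = (z ^ p ^ k) ^ Nat.gcdA (p ^ k) (Nat.card σ.ker) := by
    calc z = z ^ ((1 : ℕ) : ℤ) := by simp
      _ = _ := by
        rw [h3, zpow_add, zpow_mul, zpow_mul, zpow_natCast, zpow_natCast, h2, one_zpow, mul_one]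
  refine H.mul_mem hh ?_
  rw [h4]
  exact H.zpow_mem h1 _

end Cfsg.Agent.CharB.PSLMult
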