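import Mathlib.LinearAlgebra.Matrix.SpecialLinearGroup
import Mathlib.LinearAlgebra.Matrix.SchurComplement

/-!
Transvections `1 + d φ` of a special linear group (helper28).
-/

set_option autoImplicit false

namespace Cfsg.Agent.CharB.PSLMult

open Matrix

universe u v

variable {κ : Type u} [Fintype κ] [DecidableEq κ] {F : Type v} [Field F]

/-- The transvection `v ↦ v + φ(v) d`. -/
def tv (d φ : κ → F) (h : φ ⬝ᵥ d = 0) : SpecialLinearGroup κ F :=
  ⟨1 + vecMulVec d φ, by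
    have h2 := det_one_add_replicateCol_mul_replicateRow (ι := Unit) d φ
    rw [h, add_zero] at h2
    have e : replicateCol Unit d * replicateRow Unit φ = vecMulVec d φ := by
      ext i j; simp [Matrix.mul_apply, vecMulVec_apply]
    rwa [e] at h2⟩

theorem tv_coe (d φ : κ → F) (h : φ ⬝ᵥ d = 0) :
    ((tv d φ h : SpecialLinearGroup κ F) : Matrix κ κ F) = 1 + vecMulVec d φ := rfl

theorem tv_congr {d d' φ φ' : κ → F} (hd : d = d') (hφ : φ = φ') (h : φ ⬝ᵥ d = 0)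
    (h' : φ' ⬝ᵥ d' = 0) : tv d φ h = tv d' φ' h' := by
  subst hd; subst hφ; rfl

theorem tv_mul_fix {d d' φ : κ → F} (h : φ ⬝ᵥ d = 0) (h' : φ ⬝ᵥ d' = 0)
    (h'' : φ ⬝ᵥ (d + d') = 0) : tv d φ h * tv d' φ h' = tv (d + d') φ h'' := by
  apply Subtype.ext
  simp only [SpecialLinearGroup.coe_mul, tv_coe]
  rw [add_mul, one_mul, mul_add, mul_one, vecMulVec_mul_vecMulVec, h', add_vecMulVec]
  simp only [zero_smul, vecMulVec_zero, add_zero]
  abel

theorem tv_mul_dir {d φ φ' : κ → F} (h : φ ⬝ᵥ d = 0) (h' : φ' ⬝ᵥ d = 0)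
    (h'' : (φ + φ') ⬝ᵥ d = 0) : tv d φ h * tv d φ' h' = tv d (φ + φ') h'' := by
  apply Subtype.ext
  simp only [SpecialLinearGroup.coe_mul, tv_coe]
  rw [add_mul, one_mul, mul_add, mul_one, vecMulVec_mul_vecMulVec, h, vecMulVec_add]
  simp only [zero_smul, vecMulVec_zero, add_zero]
  abel

theorem tv_zero_left {φ : κ → F} (h : φ ⬝ᵥ (0 : κ → F) = 0) : tv 0 φ h = 1 := by
  apply Subtype.ext
  simp [tv_coe]

theorem tv_zero_right {d : κ → F} (h : (0 : κ → F) ⬝ᵥ d = 0) : tv d 0 h = 1 := by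
  apply Subtype.ext
  simp [tv_coe]

theorem tv_inv {d φ : κ → F} (h : φ ⬝ᵥ d = 0) :
    (tv d φ h)⁻¹ = tv (-d) φ (by rw [dotProduct_neg, h, neg_zero]) := by
  refine inv_eq_of_mul_eq_one_right ?_
  rw [tv_mul_fix _ _ (by rw [add_neg_cancel, dotProduct_zero]), tv_congr (add_neg_cancel d) rfl _
    (dotProduct_zero φ), tv_zero_left]

theorem tv_commute_fix {d d' φ : κ → F} (h : φ ⬝ᵥ d = 0) (h' : φ ⬝ᵥ d' = 0) :
    Commute (tv d φ h) (tv d' φ h') := by
  show tv d φ h * tv d' φ h' = tv d' φ h' * tv d φ h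
  rw [tv_mul_fix h h' (by rw [dotProduct_add, h, h', add_zero]),
    tv_mul_fix h' h (by rw [dotProduct_add, h, h', add_zero])]
  exact tv_congr (add_comm _ _) rfl _ _

theorem tv_commute_dir {d φ φ' : κ → F} (h : φ ⬝ᵥ d = 0) (h' : φ' ⬝ᵥ d = 0) :
    Commute (tv d φ h) (tv d φ' h') := by
  show tv d φ h * tv d φ' h' = tv d φ' h' * tv d φ h
  rw [tv_mul_dir h h' (by rw [add_dotProduct, h, h', add_zero]),
    tv_mul_dir h' h (by rw [add_dotProduct, h, h', add_zero])]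
  exact tv_congr rfl (add_comm _ _) _ _

theorem tv_mulVec (d φ : κ → F) (h : φ ⬝ᵥ d = 0) (v : κ → F) :
    ((tv d φ h : SpecialLinearGroup κ F) : Matrix κ κ F) *ᵥ v = v + (φ ⬝ᵥ v) • d := by
  rw [tv_coe, add_mulVec, one_mulVec, vecMulVec_mulVec, op_smul_eq_smul]

theorem tv_conj (g : SpecialLinearGroup κ F) (d φ : κ → F) (h : φ ⬝ᵥ d = 0)
    (h' : (φ ᵥ* ((g⁻¹ : SpecialLinearGroup κ F) : Matrix κ κ F)) ⬝ᵥ ((g : Matrix κ κ F) *ᵥ d) = 0) :
    g * tv d φ h * g⁻¹ =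
      tv ((g : Matrix κ κ F) *ᵥ d) (φ ᵥ* ((g⁻¹ : SpecialLinearGroup κ F) : Matrix κ κ F)) h' := by
  apply Subtype.ext
  simp only [SpecialLinearGroup.coe_mul, tv_coe]
  rw [mul_add, mul_one, add_mul, mul_vecMulVec, vecMulVec_mul, ← SpecialLinearGroup.coe_mul,
    mul_inv_cancel, SpecialLinearGroup.coe_one]

theorem conj_dot (g : SpecialLinearGroup κ F) (d φ : κ → F) :
    (φ ᵥ* ((g⁻¹ : SpecialLinearGroup κ F) : Matrix κ κ F)) ⬝ᵥ ((g : Matrix κ κ F) *ᵥ d) = φ ⬝ᵥ d := by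
  rw [← dotProduct_mulVec, mulVec_mulVec, ← SpecialLinearGroup.coe_mul, inv_mul_cancel,
    SpecialLinearGroup.coe_one, one_mulVec]

theorem tv_pow {d φ : κ → F} (h : φ ⬝ᵥ d = 0) :
    ∀ k : ℕ, tv d φ h ^ k = tv ((k : F) • d) φ (by rw [dotProduct_smul, h, smul_zero])
  | 0 => by
      rw [pow_zero, tv_congr (show ((0 : ℕ) : F) • d = 0 by simp) rfl _ (dotProduct_zero φ),
        tv_zero_left]
  | k + 1 => by
      rw [pow_succ, tv_pow h k, tv_mul_fix _ _ (by rw [dotProduct_add, dotProduct_smul, h]; simp)]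
      exact tv_congr (by push_cast; rw [add_smul, one_smul]) rfl _ _

theorem tv_pow_char (p : ℕ) [CharP F p] {d φ : κ → F} (h : φ ⬝ᵥ d = 0) : tv d φ h ^ p = 1 := by
  rw [tv_pow, tv_congr (show ((p : ℕ) : F) • d = 0 by simp) rfl _ (dotProduct_zero φ), tv_zero_left]

theorem transvection_eq_tv {i j : κ} (hij : i ≠ j) (c : F) :
    SpecialLinearGroup.transvection hij c =
      tv (Pi.single i c) (Pi.single j 1) (by simp [hij]) := by
  apply Subtype.ext
  rw [tv_coe, SpecialLinearGroup.transvection_coe]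
  congr 1
  ext k l
  simp only [Matrix.single_apply, vecMulVec_apply, Pi.single_apply]
  by_cases h1 : k = i <;> by_cases h2 : l = j <;>
    simp [h1, h2, Ne.symm, eq_comm (a := i), eq_comm (a := j)]

end Cfsg.Agent.CharB.PSLMult
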