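import Cfsg.Agent.CharB.PSLMult.Lifts
import Cfsg.Agent.CharB.PSLMult.Transv
import Mathlib.FieldTheory.Finite.Basic
import Mathlib.Tactic.LinearCombination

/-!
Lifts of the root elements of `SL_n(q)`, `n ≥ 3`, in a central extension: outside the exceptional cases they
satisfy the relations of the elementary transvections (helper28).
-/

set_option autoImplicit false

namespace Cfsg.Agent.CharB.PSLMult

open Matrix
open scoped commutatorElement

universe u v w

/-- The restrictions on degree and field. -/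
structure Good (ι : Type w) [Fintype ι] (F : Type v) [Field F] : Prop where
  three_le : 3 ≤ Fintype.card ι
  three : Fintype.card ι = 3 → ∃ a : F, a ≠ 0 ∧ a ^ 3 ≠ 1
  four : Fintype.card ι = 4 → (∃ b : F, b ≠ 0 ∧ b ^ 2 ≠ 1) ∨ (2 : F) ≠ 0

variable {ι : Type w} [Fintype ι] [DecidableEq ι] {F : Type v} [Field F]

theorem Good.exists_third (G : Good ι F) (i j : ι) : ∃ k, k ≠ i ∧ k ≠ j := by
  by_contra h
  push Not at h
  have hs : (Finset.univ : Finset ι) ⊆ {i, j} := fun k _ => by
    by_cases hk : k = i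
    · simp [hk]
    · simp [h k hk]
  have := Finset.card_le_card hs
  have h2 : ({i, j} : Finset ι).card ≤ 2 := Finset.card_le_two
  rw [Finset.card_univ] at this
  have := G.three_le
  omega

/-- A third index. -/
noncomputable def Good.k0 (G : Good ι F) (i j : ι) : ι := (G.exists_third i j).choose

theorem Good.k0_ne_left (G : Good ι F) (i j : ι) : G.k0 i j ≠ i := (G.exists_third i j).choose_spec.1

theorem Good.k0_ne_right (G : Good ι F) (i j : ι) : G.k0 i j ≠ j := (G.exists_third i j).choose_spec.2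

variable {Γ : Type u} [Group Γ] {σ : Γ →* SpecialLinearGroup ι F} (E : CEx σ)

theorem cm_generic {i j k l m : ι} (hij : i ≠ j) (hjk : j ≠ k) (hli : l ≠ i) (hmi : m ≠ i)
    (hmj : m ≠ j) (hmk : m ≠ k) (hml : m ≠ l) (t u : F) : E.cm (T i j t) (T k l u) = 1 := by
  set a := E.s (T i m t) with ha
  set b := E.s (T m j (1 : F)) with hb
  set c := E.s (T k l u) with hc
  have hy : σ ⁅a, b⁆ = T i j t := by
    rw [map_commutatorElement, ha, hb, E.map_s, E.map_s, T_comm (Ne.symm hmi) hmj hij, mul_one]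
  have hx : ⁅c, b⁆ ∈ Subgroup.center Γ := by
    rw [E.cm_eq, hc, hb, E.map_s, E.map_s]
    exact E.cm_mem_center (T_commute hml.symm hjk u 1)
  have hmid := E.mid (a := a) (b := b) (c := c)
    (by rw [ha, hc, E.map_s, E.map_s]; exact T_commute hmk hli t u)
    (Subgroup.mem_center_iff.1 hx _).symm
  have h1 : ⁅a, ⁅c, b⁆⁆ = 1 :=
    commutatorElement_eq_one_iff_mul_comm.2 (Subgroup.mem_center_iff.1 hx a)
  rw [h1, E.cm_eq, hy, hc, E.map_s] at hmid
  rw [← E.cm_inv, hmid, inv_one]

theorem cm_scale {i j : ι} {y : SpecialLinearGroup ι F} (hc : ∀ t : F, Commute (T i j t) y) {c : F}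
    (hc1 : c ≠ 1) (h : ∀ t : F, E.cm (T i j (c * t)) y = E.cm (T i j t) y) (t : F) :
    E.cm (T i j t) y = 1 := by
  have hne : c - 1 ≠ 0 := sub_ne_zero.2 hc1
  have h1 := h (t / (c - 1))
  rw [show c * (t / (c - 1)) = t / (c - 1) + t by field_simp; ring, T_add,
    E.cm_mul_left' (hc t)] at h1
  exact mul_eq_right.1 h1

theorem cm_disjoint_rel {i j k l : ι} (hij : i ≠ j) (hkl : k ≠ l) (hik : i ≠ k) (hil : i ≠ l)
    (hjk : j ≠ k) (hjl : j ≠ l)
    (hrow : ∀ t u : F, E.cm (T i l t) (T i j u) = 1) (hcol : ∀ t u : F, E.cm (T k j t) (T i j u) = 1)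
    (t u : F) :
    E.cm (T k l u) (T i j (-t)) = E.cm (T k j (1 : F)) (T i l (-(t * u))) ∧
      E.cm (T k l u) (T i j t) = E.cm (T i l t) (T k j u) := by
  constructor
  · set a := E.s (T k j (1 : F)) with ha
    set b := E.s (T i k t) with hb
    set c := E.s (T k l u) with hc
    have hy : σ ⁅a, b⁆ = T i j (-t) := by
      rw [map_commutatorElement, ha, hb, E.map_s, E.map_s, T_comm' hik (Ne.symm hjk) hij, mul_one]
    have hx : σ ⁅c, b⁆ = T i l (-(t * u)) := by
      rw [map_commutatorElement, hc, hb, E.map_s, E.map_s, T_comm' hik hkl hil]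
    have hmid := E.mid (a := a) (b := b) (c := c)
      (by rw [ha, hc, E.map_s, E.map_s]; exact T_commute hjk (Ne.symm hkl) _ _)
      (E.commute_of_cm (by rw [hy, hx]; exact hrow _ _))
    rw [E.cm_eq c, E.cm_eq a ⁅c, b⁆, hy, hx, hc, ha, E.map_s, E.map_s] at hmid
    exact hmid
  · set a := E.s (T i l t) with ha
    set b := E.s (T l j (1 : F)) with hb
    set c := E.s (T k l u) with hc
    have hy : σ ⁅a, b⁆ = T i j t := by
      rw [map_commutatorElement, ha, hb, E.map_s, E.map_s, T_comm hil (Ne.symm hjl) hij, mul_one]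
    have hx : σ ⁅c, b⁆ = T k j u := by
      rw [map_commutatorElement, hc, hb, E.map_s, E.map_s, T_comm hkl (Ne.symm hjl) (Ne.symm hjk),
        mul_one]
    have hmid := E.mid (a := a) (b := b) (c := c)
      (by rw [ha, hc, E.map_s, E.map_s]; exact T_commute (Ne.symm hkl) (Ne.symm hil) _ _)
      (E.commute_of_cm (by rw [hy, hx]; exact hcol _ _))
    rw [E.cm_eq c, E.cm_eq a ⁅c, b⁆, hy, hx, hc, ha, E.map_s, E.map_s] at hmid
    exact hmid

variable (G : Good ι F) [Finite F]

include G in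
/-- Lifts of commuting transvections commute. -/
theorem cm_T_eq_one {i j k l : ι} (hij : i ≠ j) (hkl : k ≠ l) (hjk : j ≠ k) (hli : l ≠ i) (t u : F) :
    E.cm (T i j t) (T k l u) = 1 := by
  by_cases hex : ∃ m, m ≠ i ∧ m ≠ j ∧ m ≠ k ∧ m ≠ l
  · obtain ⟨m, h1, h2, h3, h4⟩ := hex
    exact cm_generic E hij hjk hli h1 h2 h3 h4 t u
  push Not at hex
  have hsub : (Finset.univ : Finset ι) ⊆ {i, j, k, l} := fun m _ => by
    simp only [Finset.mem_insert, Finset.mem_singleton]
    by_contra hm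
    simp only [not_or] at hm
    exact hm.2.2.2 (hex m hm.1 hm.2.1 hm.2.2.1)
  have hcard := Finset.card_le_card hsub
  rw [Finset.card_univ] at hcard
  by_cases hik : i = k
  · subst hik
    have e : ({i, j, i, l} : Finset ι) = {i, j, l} := by ext x; simp; tauto
    rw [e] at hcard
    have hjl : j ≠ l := fun h => by
      subst h
      have e2 : ({i, j, j} : Finset ι) = {i, j} := by simp
      rw [e2] at hcard
      have := (Finset.card_le_two (a := i) (b := j)).trans' hcard
      have := G.three_le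
      omega
    have h3 : Fintype.card ι = 3 :=
      le_antisymm (hcard.trans Finset.card_le_three) G.three_le
    obtain ⟨a, ha, ha3⟩ := G.three h3
    refine cm_scale E (fun t => T_commute hjk hli t u) ha3 (fun t => ?_) t
    have hc := E.cm_conj (T_commute hjk hli t u) (dg i j ha * dg l j ha)
    simp only [_root_.mul_inv_rev, ← mul_assoc] at hc
    rw [show ∀ x y z : SpecialLinearGroup ι F,
        x * y * z * y⁻¹ * x⁻¹ = x * (y * z * y⁻¹) * x⁻¹ from fun x y z => by group,
      show ∀ x y z : SpecialLinearGroup ι F,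
        x * y * z * y⁻¹ * x⁻¹ = x * (y * z * y⁻¹) * x⁻¹ from fun x y z => by group,
      dg_conj, dg_conj, dg_conj, dg_conj] at hc
    convert hc using 3
    · simp [dvec, hij, Ne.symm hij, hkl, Ne.symm hkl, hjl, Ne.symm hjl]
      ring
    · simp [dvec, hij, Ne.symm hij, hkl, Ne.symm hkl, hjl, Ne.symm hjl, ha]
  by_cases hjl : j = l
  · subst hjl
    have e : ({i, j, k, j} : Finset ι) = {i, j, k} := by ext x; simp; tauto
    rw [e] at hcard
    have h3 : Fintype.card ι = 3 :=
      le_antisymm (hcard.trans Finset.card_le_three) G.three_le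
    obtain ⟨a, ha, ha3⟩ := G.three h3
    refine cm_scale E (c := (a ^ 3)⁻¹) (fun t => T_commute hjk hli t u)
      (fun h => ha3 (inv_eq_one.1 h)) (fun t => ?_) t
    have hc := E.cm_conj (T_commute hjk hli t u) (dg k i ha * dg j i ha)
    simp only [_root_.mul_inv_rev, ← mul_assoc] at hc
    rw [show ∀ x y z : SpecialLinearGroup ι F,
        x * y * z * y⁻¹ * x⁻¹ = x * (y * z * y⁻¹) * x⁻¹ from fun x y z => by group,
      show ∀ x y z : SpecialLinearGroup ι F,
        x * y * z * y⁻¹ * x⁻¹ = x * (y * z * y⁻¹) * x⁻¹ from fun x y z => by group,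
      dg_conj, dg_conj, dg_conj, dg_conj] at hc
    convert hc using 3
    · simp [dvec, hij, Ne.symm hij, hkl, Ne.symm hkl, hik, Ne.symm hik]
      field_simp
    · simp [dvec, hij, Ne.symm hij, hkl, Ne.symm hkl, hik, Ne.symm hik, ha]
  -- four distinct indices
  have h4 : Fintype.card ι = 4 := le_antisymm (hcard.trans Finset.card_le_four) (by
    have := Finset.card_le_univ ({i, j, k, l} : Finset ι)
    rwa [Finset.card_eq_of_equiv_fin (n := 4) ?_] at this
    exact (Finset.equivFinOfCardEq (by simp [hij, hik, Ne.symm hli, hjk, hjl, hkl])))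
  rcases G.four h4 with ⟨b, hb, hb2⟩ | h2
  · refine cm_scale E (fun t => T_commute hjk hli t u) hb2 (fun t => ?_) t
    have hc := E.cm_conj (T_commute hjk hli t u) (dg i j hb)
    rw [dg_conj, dg_conj] at hc
    convert hc using 3
    · simp [dvec, hij, Ne.symm hij]; exact Or.inl (by ring)
    · simp [dvec, hik, Ne.symm hik, hjk, Ne.symm hjk, hli, Ne.symm hli, hjl, Ne.symm hjl]
  -- odd characteristic
  have hg : ∀ (t u : F), E.cm (T k j t) (T k l u) = 1 := fun t u =>
    cm_generic E (Ne.symm hjk) hjk (Ne.symm hkl) hik hij hik (Ne.symm hli) t u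
  have hg' : ∀ (t u : F), E.cm (T i l t) (T k l u) = 1 := fun t u =>
    cm_generic E (Ne.symm hli) (Ne.symm hkl) hli (Ne.symm hij) hjl hjk hjl t u
  have R := fun t u => cm_disjoint_rel E hkl hij (Ne.symm hik) (Ne.symm hjk) hli (Ne.symm hjl)
    hg hg' t u
  have hA : ∀ w : F, E.cm (T i j (1 : F)) (T k l w) = E.cm (T i l (1 : F)) (T k j w) := fun w => by
    have := (R (-w) 1).1
    rwa [neg_neg, mul_one, neg_neg] at this
  have hB : ∀ w : F, E.cm (T i j (1 : F)) (T k l w) = (E.cm (T i l (1 : F)) (T k j w))⁻¹ := fun w => by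
    rw [E.cm_inv]; exact (R w 1).2
  have h1 : ∀ w : F, E.cm (T i l (1 : F)) (T k j w) = 1 := by
    intro w
    set z := E.cm (T i l (1 : F)) (T k j w) with hz
    have hz2 : z ^ 2 = 1 := by
      have := (hA w).symm.trans (hB w)
      rw [← hz, eq_inv_iff_mul_eq_one] at this
      rw [pow_two, this]
    obtain ⟨p, hp⟩ := CharP.exists F
    have hzp : z ^ p = 1 := by
      rw [hz, ← E.cm_pow_left (T_commute (Ne.symm hkl) hij.symm 1 w), T_pow, mul_one,
        CharP.cast_eq_zero, T_zero, E.cm_one_left]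
    have hpp : p.Prime := (CharP.char_is_prime_or_zero F p).resolve_right (CharP.char_ne_zero_of_finite F p)
    have hp2 : p ≠ 2 := fun h => h2 (by
      have := CharP.cast_eq_zero F p
      rw [h] at this
      exact_mod_cast this)
    have := pow_gcd_eq_one.2 ⟨hz2, hzp⟩
    rwa [(Nat.coprime_primes Nat.prime_two hpp).2 hp2.symm |>.gcd_eq_one, pow_one] at this
  have h3 := (R (-u) t).1
  rwa [neg_neg, show -(-u * t) = u * t by ring, h1] at h3

/-- The lifted root element defined through `k`. -/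
noncomputable def fk (i k j : ι) (t u : F) : Γ := E.cm (T i k t) (T k j u)

omit [Finite F] in
theorem map_fk {i k j : ι} (hik : i ≠ k) (hkj : k ≠ j) (hij : i ≠ j) (t u : F) :
    σ (fk E i k j t u) = T i j (t * u) := by
  rw [fk, E.map_cm, T_comm hik hkj hij]

include G in
theorem fk_commute {i k j a b c : ι} (hik : i ≠ k) (hkj : k ≠ j) (hij : i ≠ j) (hac : a ≠ c)
    (hcb : c ≠ b) (hab : a ≠ b) (hja : j ≠ a) (hbi : b ≠ i) (t u t' u' : F) :
    Commute (fk E i k j t u) (fk E a c b t' u') :=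
  E.commute_of_cm (by rw [map_fk E hik hkj hij, map_fk E hac hcb hab]; exact cm_T_eq_one E G hij hab hja hbi _ _)

include G in
theorem fk_add_left {i k j : ι} (hik : i ≠ k) (hkj : k ≠ j) (hij : i ≠ j) (t t' u : F) :
    fk E i k j (t + t') u = fk E i k j t' u * fk E i k j t u := by
  unfold fk
  rw [T_add, E.cm_mul_left]
  congr 1
  have h : Commute (E.s (T i k t)) (E.cm (T i k t') (T k j u)) := E.commute_of_cm (by
    rw [E.map_s, E.map_cm, T_comm hik hkj hij]
    exact cm_T_eq_one E G hik hij hik.symm hij.symm _ _)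
  rw [h.eq, mul_inv_cancel_right]

include G in
theorem fk_add_right {i k j : ι} (hik : i ≠ k) (hkj : k ≠ j) (hij : i ≠ j) (t u u' : F) :
    fk E i k j t (u + u') = fk E i k j t u * fk E i k j t u' := by
  unfold fk
  rw [← _root_.inv_inj, E.cm_inv, _root_.mul_inv_rev, E.cm_inv, E.cm_inv, T_add, E.cm_mul_left]
  congr 1
  have h : Commute (E.s (T k j u)) (E.cm (T k j u') (T i k t)) := E.commute_of_cm (by
    rw [E.map_s, E.map_cm, T_comm' hik hkj hij]
    exact cm_T_eq_one E G hkj hij (Ne.symm hij) (Ne.symm hkj) _ _)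
  rw [h.eq, mul_inv_cancel_right]

include G in
theorem fk_neg_right {i k j : ι} (hik : i ≠ k) (hkj : k ≠ j) (hij : i ≠ j) (t u : F) :
    fk E i k j t (-u) = (fk E i k j t u)⁻¹ :=
  eq_inv_of_mul_eq_one_left (by
    rw [← fk_add_right E G hik hkj hij, neg_add_cancel, fk, T_zero, E.cm_one_right])

include G in
theorem fk_hall {i k j m : ι} (hik : i ≠ k) (hkj : k ≠ j) (hij : i ≠ j) (hmi : m ≠ i) (hmk : m ≠ k)
    (hmj : m ≠ j) (t s u : F) : fk E i k j (t * s) u = fk E i m j t (s * u) := by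
  set a := E.s (T i m t) with ha
  set b := E.s (T m k s) with hb
  set c := E.s (T k j u) with hc
  have hy : σ ⁅a, b⁆ = T i k (t * s) := by
    rw [map_commutatorElement, ha, hb, E.map_s, E.map_s, T_comm (Ne.symm hmi) hmk hik]
  have hx : σ ⁅c, b⁆ = T m j (-(s * u)) := by
    rw [map_commutatorElement, hc, hb, E.map_s, E.map_s, T_comm' hmk hkj hmj]
  have hmid := E.mid (a := a) (b := b) (c := c)
    (by rw [ha, hc, E.map_s, E.map_s]; exact T_commute hmk (Ne.symm hij) _ _)
    (E.commute_of_cm (by rw [hy, hx]; exact cm_T_eq_one E G hmj hik (Ne.symm hij) (Ne.symm hmk) _ _))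
  rw [E.cm_eq c, E.cm_eq a ⁅c, b⁆, hy, hx, hc, ha, E.map_s, E.map_s] at hmid
  have h' := fk_neg_right E G (Ne.symm hmi) hmj hij t (s * u)
  unfold fk at h' ⊢
  rw [h', ← E.cm_inv, _root_.inv_inj] at hmid
  exact hmid

include G in
theorem fk_norm {i k j : ι} (hik : i ≠ k) (hkj : k ≠ j) (hij : i ≠ j) (t u : F) :
    fk E i k j t u = fk E i k j (t * u) 1 := by
  by_cases hex : ∃ m, m ≠ i ∧ m ≠ k ∧ m ≠ j
  · obtain ⟨m, hmi, hmk, hmj⟩ := hex
    have h1 := fk_hall E G hik hkj hij hmi hmk hmj t 1 u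
    have h2 := fk_hall E G hik hkj hij hmi hmk hmj t u 1
    rw [mul_one, one_mul] at h1
    rw [mul_one] at h2
    rw [h1, h2]
  push Not at hex
  have hsub : (Finset.univ : Finset ι) ⊆ {i, k, j} := fun m _ => by
    simp only [Finset.mem_insert, Finset.mem_singleton]
    by_contra hm
    simp only [not_or] at hm
    exact hm.2.2 (hex m hm.1 hm.2.1)
  have h3 : Fintype.card ι = 3 := le_antisymm
    ((Finset.card_univ (α := ι)).symm.le.trans ((Finset.card_le_card hsub).trans Finset.card_le_three))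
    G.three_le
  obtain ⟨a, ha, ha3⟩ := G.three h3
  set c := (a ^ 3)⁻¹ with hcdef
  have hc1 : c ≠ 1 := fun h => ha3 (inv_eq_one.1 h)
  let h : F → Γ := fun t => fk E i k j t u * (fk E i k j (t * u) 1)⁻¹
  have hcen : ∀ t, h t ∈ Subgroup.center Γ := fun t => E.central (by
    rw [MonoidHom.mem_ker, map_mul, map_inv, map_fk E hik hkj hij, map_fk E hik hkj hij, mul_one,
      mul_inv_cancel])
  have hadd : ∀ t t', h (t + t') = h t * h t' := fun t t' => by
    show fk E i k j (t + t') u * (fk E i k j ((t + t') * u) 1)⁻¹ = _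
    rw [add_mul, fk_add_left E G hik hkj hij, fk_add_left E G hik hkj hij, _root_.mul_inv_rev]
    calc fk E i k j t' u * fk E i k j t u * ((fk E i k j (t * u) 1)⁻¹ * (fk E i k j (t' * u) 1)⁻¹)
        = fk E i k j t' u * h t * (fk E i k j (t' * u) 1)⁻¹ := by simp only [h]; group
      _ = h t * h t' := by rw [Subgroup.mem_center_iff.1 (hcen t) _, mul_assoc]
  have hscale : ∀ t, h (c * t) = h t := fun t => by
    set g := E.s (dg k i ha * dg j i ha) with hg
    have key : ∀ t u : F, g * fk E i k j t u * g⁻¹ = fk E i k j (c * t) u := fun t u => by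
      unfold fk
      rw [E.conj_cm, hg, E.map_s]
      simp only [_root_.mul_inv_rev, ← mul_assoc]
      rw [show ∀ x y z : SpecialLinearGroup ι F,
          x * y * z * y⁻¹ * x⁻¹ = x * (y * z * y⁻¹) * x⁻¹ from fun x y z => by group,
        show ∀ x y z : SpecialLinearGroup ι F,
          x * y * z * y⁻¹ * x⁻¹ = x * (y * z * y⁻¹) * x⁻¹ from fun x y z => by group,
        dg_conj, dg_conj, dg_conj, dg_conj]
      congr 2
      · simp [dvec, hij, Ne.symm hij, hik, Ne.symm hik, hkj, Ne.symm hkj, hcdef]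
        field_simp
      · simp [dvec, hij, Ne.symm hij, hik, Ne.symm hik, hkj, Ne.symm hkj, ha]
    show fk E i k j (c * t) u * (fk E i k j (c * t * u) 1)⁻¹ = h t
    rw [mul_assoc c t u, ← key, ← key]
    calc g * fk E i k j t u * g⁻¹ * (g * fk E i k j (t * u) 1 * g⁻¹)⁻¹ = g * h t * g⁻¹ := by
          simp only [h]; group
      _ = h t := by rw [Subgroup.mem_center_iff.1 (hcen t) g, mul_inv_cancel_right]
  have hne : c - 1 ≠ 0 := sub_ne_zero.2 hc1
  have h1 := hscale (t / (c - 1))
  rw [show c * (t / (c - 1)) = t / (c - 1) + t by field_simp; ring, hadd] at h1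
  exact mul_inv_eq_one.1 (mul_eq_left.1 h1)

/-- The lifted root element. -/
noncomputable def Y (i j : ι) (t : F) : Γ :=
  if i = j then 1 else fk E i (G.k0 i j) j t 1

theorem Y_eq_fk {i j : ι} (hij : i ≠ j) (t : F) : Y E G i j t = fk E i (G.k0 i j) j t 1 := by
  rw [Y, if_neg hij]

theorem fk_eq_Y {i k j : ι} (hik : i ≠ k) (hkj : k ≠ j) (hij : i ≠ j) (t u : F) :
    fk E i k j t u = Y E G i j (t * u) := by
  rw [Y_eq_fk E G hij, fk_norm E G hik hkj hij]
  by_cases h : k = G.k0 i j
  · rw [← h]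
  have := fk_hall E G hik hkj hij (G.k0_ne_left i j) (Ne.symm h) (G.k0_ne_right i j) (t * u) 1 1
  rwa [mul_one, mul_one] at this

theorem map_Y {i j : ι} (hij : i ≠ j) (t : F) : σ (Y E G i j t) = T i j t := by
  rw [Y_eq_fk E G hij, map_fk E (Ne.symm (G.k0_ne_left i j)) (G.k0_ne_right i j) hij, mul_one]

theorem Y_commute {i j k l : ι} (hij : i ≠ j) (hkl : k ≠ l) (hjk : j ≠ k) (hli : l ≠ i) (t u : F) :
    Commute (Y E G i j t) (Y E G k l u) :=
  E.commute_of_cm (by rw [map_Y E G hij, map_Y E G hkl]; exact cm_T_eq_one E G hij hkl hjk hli _ _)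

theorem Y_add {i j : ι} (hij : i ≠ j) (t u : F) :
    Y E G i j (t + u) = Y E G i j t * Y E G i j u := by
  rw [(Y_commute E G hij hij hij.symm hij.symm t u).eq, Y_eq_fk E G hij, Y_eq_fk E G hij,
    Y_eq_fk E G hij]
  exact fk_add_left E G (Ne.symm (G.k0_ne_left i j)) (G.k0_ne_right i j) hij t u 1

theorem Y_zero {i j : ι} (hij : i ≠ j) : Y E G i j 0 = 1 := by
  rw [Y_eq_fk E G hij, fk, T_zero, E.cm_one_left]

theorem Y_neg {i j : ι} (hij : i ≠ j) (t : F) : Y E G i j (-t) = (Y E G i j t)⁻¹ :=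
  eq_inv_of_mul_eq_one_left (by rw [← Y_add E G hij, neg_add_cancel, Y_zero E G hij])

theorem Y_comm {i k j : ι} (hik : i ≠ k) (hkj : k ≠ j) (hij : i ≠ j) (t u : F) :
    ⁅Y E G i k t, Y E G k j u⁆ = Y E G i j (t * u) := by
  rw [E.cm_eq, map_Y E G hik, map_Y E G hkj]
  exact fk_eq_Y E G hik hkj hij t u

end Cfsg.Agent.CharB.PSLMult
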