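import Cfsg.Agent.CharB.PSLMult.PPrimeStep
import Cfsg.Agent.KnownSimple.Multiplier.SL2

/-!
The multiplier of `SL_n(q)` has no part prime to the characteristic (helper28).
-/

set_option autoImplicit false

namespace Cfsg.Agent.CharB.PSLMult

open Matrix
open scoped MatrixGroups

universe u v w

section Transport

variable {G : Type v} [Group G] {H : Type w} [Group H] {p : ℕ}

theorem PTriv.of_mulEquiv (e : G ≃* H) (h : PTriv.{u} p G) : PTriv.{u} p H := by
  intro Γ _ _ σ E hgen
  have hk : (e.symm.toMonoidHom.comp σ).ker = σ.ker := by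
    ext x; simp [MonoidHom.mem_ker]
  have E' : PExt p (e.symm.toMonoidHom.comp σ) :=
    ⟨E.prime, e.symm.surjective.comp E.surj, hk ▸ E.central, hk ▸ E.coprime⟩
  rw [← hk]
  exact h Γ _ E' hgen

end Transport

variable {F : Type v} [Field F]

/-- Reindexing of a special linear group. -/
def reindexSL {ι : Type u} {κ : Type w} [Fintype ι] [DecidableEq ι] [Fintype κ] [DecidableEq κ]
    (e : ι ≃ κ) : SpecialLinearGroup ι F ≃* SpecialLinearGroup κ F where
  toFun A := ⟨(A : Matrix ι ι F).submatrix e.symm e.symm, by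
    rw [det_submatrix_equiv_self]; exact A.2⟩
  invFun A := ⟨(A : Matrix κ κ F).submatrix e e, by
    rw [det_submatrix_equiv_self]; exact A.2⟩
  left_inv A := by apply Subtype.ext; simp
  right_inv A := by apply Subtype.ext; simp
  map_mul' A B := by
    apply Subtype.ext
    show ((A : Matrix ι ι F) * (B : Matrix ι ι F)).submatrix e.symm e.symm =
      (A : Matrix ι ι F).submatrix e.symm e.symm * (B : Matrix ι ι F).submatrix e.symm e.symm
    rw [submatrix_mul_equiv]

variable [Finite F] {p : ℕ} [CharP F p]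

/-- The case of degree two. -/
theorem ptriv_two : PTriv.{v} p (SpecialLinearGroup (Fin 2) F) := by
  intro Γ _ _ σ E hgen
  haveI := Fact.mk E.prime
  -- the kernel lies in the derived subgroup
  have hcom : σ.ker ≤ commutator Γ := by
    intro z hz
    have hall : ∀ x : Abelianization Γ, Pel p x := by
      intro x
      obtain ⟨g, rfl⟩ := QuotientGroup.mk_surjective x
      have hg : g ∈ Subgroup.closure {g : Γ | Pel p g} := hgen ▸ Subgroup.mem_top g
      refine Subgroup.closure_induction (p := fun g _ => Pel p (Abelianization.of g))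
        (fun g hg => hg.map _) (by rw [map_one]; exact pel_one)
        (fun a b _ _ ha hb => by rw [map_mul]; exact ha.mul hb (Commute.all _ _))
        (fun a _ ha => by rw [map_inv]; exact ha.inv) hg
    obtain ⟨k, hk⟩ := hall (Abelianization.of z)
    have h1 : Abelianization.of z ^ Nat.card σ.ker = 1 := by
      rw [← map_pow, show z ^ Nat.card σ.ker = 1 from
        congrArg Subtype.val (pow_card_eq_one' (x := (⟨z, hz⟩ : σ.ker))), map_one]
    have hco : Nat.Coprime (p ^ k) (Nat.card σ.ker) :=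
      ((E.prime.coprime_iff_not_dvd).2 E.coprime).pow_left k
    have h2 := pow_gcd_eq_one.2 ⟨hk, h1⟩
    rw [hco.gcd_eq_one, pow_one] at h2
    rwa [← Abelianization.ker_of, MonoidHom.mem_ker]
  have hσ : Cfsg.IsStemExtension σ := ⟨E.surj, E.central, hcom⟩
  by_contra hne
  obtain ⟨⟨z, hz⟩, hz1'⟩ := (Subgroup.ne_bot_iff_exists_ne_one).1 hne
  have hz1 : z ≠ 1 := fun e => hz1' (Subtype.ext e)
  obtain ⟨ℓ, hℓ, hdvd⟩ := Nat.exists_prime_and_dvd (fun e => hz1 (orderOf_eq_one_iff.1 e))
  haveI := Fact.mk hℓ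
  have hℓp : ℓ ≠ p := by
    rintro rfl
    refine E.coprime (hdvd.trans ?_)
    exact orderOf_dvd_of_pow_eq_one
      (congrArg Subtype.val (pow_card_eq_one' (x := (⟨z, hz⟩ : σ.ker))))
  set S : Subgroup (SpecialLinearGroup (Fin 2) F) :=
    (default : Sylow ℓ (SpecialLinearGroup (Fin 2) F)).toSubgroup with hS
  have hw : z ^ (orderOf z / ℓ) ∈ σ.ker := pow_mem hz _
  set w := z ^ (orderOf z / ℓ) with hwdef
  have hord : orderOf w = ℓ := orderOf_pow_orderOf_div (orderOf_pos z).ne' hdvd
  have : (S.comap σ).FiniteIndex := inferInstance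
  have hmem := Cfsg.Agent.Schur.pow_index_mem_commutator (S.comap σ) (hσ.2.1 hw) (hσ.2.2 hw)
  rw [Subgroup.map_subtype_commutator, Subgroup.index_comap_of_surjective S E.surj] at hmem
  have hmem' : w ^ S.index ∈ σ.ker ⊓ ⁅S.comap σ, S.comap σ⁆ := ⟨pow_mem hw _, hmem⟩
  rw [hS] at hmem'
  rw [KnownSimple.sylow_condition (p := p) hℓp default σ E.surj E.central, Subgroup.mem_bot] at hmem'
  have hd := orderOf_dvd_of_pow_eq_one hmem'
  rw [hord] at hd
  exact (default : Sylow ℓ (SpecialLinearGroup (Fin 2) F)).not_dvd_index hd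

/-- The multiplier of `SL_n(q)` is a `p`-group. -/
theorem ptriv_fin : ∀ n, 2 ≤ n → PTriv.{v} p (SpecialLinearGroup (Fin n) F)
  | 0, h => absurd h (by omega)
  | 1, h => absurd h (by omega)
  | 2, _ => ptriv_two
  | n + 3, _ =>
    PTriv.of_mulEquiv
      (reindexSL ((Equiv.sumCongr (Equiv.refl _) finOneEquiv.symm).trans finSumFinEquiv))
      (ptriv_succ (by simp) (ptriv_fin (n + 2) (by omega)))

end Cfsg.Agent.CharB.PSLMult
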