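import Cfsg.Agent.CharB.PSLMult.Transv
import Cfsg.Agent.CharB.PSLMult.PLift
import Cfsg.Agent.Lib.LinearGroup.Generation
import Mathlib.Algebra.CharP.Basic
import Mathlib.Tactic.FieldSimp
import Mathlib.Tactic.LinearCombination

/-!
The part prime to the characteristic of the multiplier of SL: the inductive step.  The cosets of the
lifted stabiliser of a vector carry an equivariant section over the nonzero vectors (helper28).
-/

set_option autoImplicit false

namespace Cfsg.Agent.CharB.PSLMult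

open Matrix

universe u v w

/-- Central extensions with kernel prime to `p`, generated by `p`-elements, are trivial. -/
def PTriv (p : ℕ) (G : Type v) [Group G] : Prop :=
  ∀ (Γ : Type u) [Group Γ] [Finite Γ] (σ : Γ →* G), PExt p σ →
    Subgroup.closure {g : Γ | Pel p g} = ⊤ → σ.ker = ⊥

section Vectors

variable {ι : Type w} [Fintype ι] [DecidableEq ι] {F : Type v} [Field F]

/-- The last basis vector. -/
def ev : ι ⊕ Unit → F := Sum.elim 0 1

/-- A vector of the first coordinates. -/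
def bar (b : ι → F) : ι ⊕ Unit → F := Sum.elim b 0

theorem dot_ev (f : ι ⊕ Unit → F) : f ⬝ᵥ ev = f (Sum.inr ()) := by
  simp [ev, dotProduct]

theorem ev_dot (v : ι ⊕ Unit → F) : ev ⬝ᵥ v = v (Sum.inr ()) := by
  simp [ev, dotProduct]

theorem dot_bar (f : ι ⊕ Unit → F) (b : ι → F) : f ⬝ᵥ bar b = (f ∘ Sum.inl) ⬝ᵥ b := by
  simp [bar, dotProduct]

theorem ev_dot_bar (b : ι → F) : ev ⬝ᵥ bar b = 0 := by rw [ev_dot]; rfl

/-- The block embedding. -/
def emb : SpecialLinearGroup ι F →* SpecialLinearGroup (ι ⊕ Unit) F where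
  toFun A := ⟨fromBlocks (A : Matrix ι ι F) 0 0 1, by
    rw [det_fromBlocks_zero₂₁, A.2, det_one, mul_one]⟩
  map_one' := by
    apply Subtype.ext
    exact fromBlocks_one
  map_mul' A B := by
    apply Subtype.ext
    show fromBlocks ((A : Matrix ι ι F) * (B : Matrix ι ι F)) 0 0 1 =
      fromBlocks (A : Matrix ι ι F) 0 0 1 * fromBlocks (B : Matrix ι ι F) 0 0 1
    simp [fromBlocks_multiply]

theorem emb_coe (A : SpecialLinearGroup ι F) :
    ((emb A : SpecialLinearGroup (ι ⊕ Unit) F) : Matrix (ι ⊕ Unit) (ι ⊕ Unit) F) =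
      fromBlocks (A : Matrix ι ι F) 0 0 1 := rfl

theorem emb_injective : Function.Injective (emb : SpecialLinearGroup ι F → _) := by
  intro A B h
  apply Subtype.ext
  ext i j
  exact congrFun (congrFun (congrArg Subtype.val h) (Sum.inl i)) (Sum.inl j)

theorem emb_mulVec_ev (A : SpecialLinearGroup ι F) :
    ((emb A : SpecialLinearGroup (ι ⊕ Unit) F) : Matrix (ι ⊕ Unit) (ι ⊕ Unit) F) *ᵥ ev = ev := by
  rw [emb_coe]
  ext (i | i) <;> simp [ev, fromBlocks_mulVec, mulVec, dotProduct]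

theorem tv_row_coe (r : ι → F) (h : (Sum.elim r 0 : ι ⊕ Unit → F) ⬝ᵥ ev = 0) :
    ((tv ev (Sum.elim r 0) h : SpecialLinearGroup (ι ⊕ Unit) F) : Matrix (ι ⊕ Unit) (ι ⊕ Unit) F) =
      fromBlocks 1 0 (Matrix.of fun _ j => r j) 1 := by
  rw [tv_coe]
  ext (i | i) (j | j) <;> simp [ev, vecMulVec_apply, Matrix.one_apply]

/-- The stabiliser of the last vector is generated by the block subgroup and the rows. -/
theorem exists_decomp {g : SpecialLinearGroup (ι ⊕ Unit) F}
    (hg : (g : Matrix (ι ⊕ Unit) (ι ⊕ Unit) F) *ᵥ ev = ev) :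
    ∃ (A : SpecialLinearGroup ι F) (r : ι → F),
      g = emb A * tv ev (Sum.elim r 0) (by simp [dot_ev]) := by
  set M : Matrix (ι ⊕ Unit) (ι ⊕ Unit) F := (g : Matrix (ι ⊕ Unit) (ι ⊕ Unit) F) with hM
  have hcol : ∀ k, M k (Sum.inr ()) = ev k := fun k => by
    have := congrFun hg k
    rw [mulVec, dot_ev] at this
    exact this
  have hblk : M = fromBlocks M.toBlocks₁₁ 0 M.toBlocks₂₁ 1 := by
    ext (i | i) (j | j)
    · rfl
    · simp only [fromBlocks_apply₁₂, Matrix.zero_apply]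
      exact hcol (Sum.inl i)
    · rfl
    · simp only [fromBlocks_apply₂₂]
      rw [Subsingleton.elim i (), Subsingleton.elim j (), Matrix.one_apply_eq]
      exact hcol (Sum.inr ())
  have hdet : M.toBlocks₁₁.det = 1 := by
    have h1 : M.det = 1 := g.2
    rw [hblk, det_fromBlocks_zero₁₂, det_one, mul_one] at h1
    exact h1
  refine ⟨⟨M.toBlocks₁₁, hdet⟩, fun j => M.toBlocks₂₁ () j, ?_⟩
  apply Subtype.ext
  rw [SpecialLinearGroup.coe_mul, tv_row_coe]
  show M = fromBlocks M.toBlocks₁₁ 0 0 1 * fromBlocks 1 0 (Matrix.of fun _ j => M.toBlocks₂₁ () j) 1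
  rw [fromBlocks_multiply]
  conv_lhs => rw [hblk]
  ext (i | i) (j | j) <;> simp

theorem bar_add (a b : ι → F) : bar (a + b) = bar a + bar b := by
  ext (i | i) <;> simp [bar]

theorem bar_zero : bar (0 : ι → F) = 0 := by
  ext (i | i) <;> simp [bar]

/-- A functional killing `b` with given value at `a`. -/
theorem exists_functional {a b : ι → F} (h : ∀ t : F, a ≠ t • b) (s : F) :
    ∃ ψ : ι → F, ψ ⬝ᵥ a = s ∧ ψ ⬝ᵥ b = 0 := by
  by_cases hb : b = 0
  · subst hb
    obtain ⟨i, hi⟩ := Function.ne_iff.1 (h 0)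
    rw [zero_smul, Pi.zero_apply] at hi
    exact ⟨Pi.single i (s / a i), by simp [hi], by simp⟩
  · obtain ⟨i, hi⟩ := Function.ne_iff.1 hb
    rw [Pi.zero_apply] at hi
    obtain ⟨j, hj⟩ := Function.ne_iff.1 (h (a i / b i))
    rw [Pi.smul_apply, smul_eq_mul] at hj
    have hne : a j - a i / b i * b j ≠ 0 := sub_ne_zero.2 hj
    set k := s / (a j - a i / b i * b j) with hk
    refine ⟨Pi.single j k - Pi.single i (k * b j / b i), ?_, ?_⟩
    · rw [sub_dotProduct, single_dotProduct, single_dotProduct,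
        show k * a j - k * b j / b i * a i = k * (a j - a i / b i * b j) by ring, hk,
        div_mul_cancel₀ _ hne]
    · rw [sub_dotProduct, single_dotProduct, single_dotProduct, div_mul_cancel₀ _ hi, sub_self]

end Vectors

section Step

variable {ι : Type w} [Fintype ι] [DecidableEq ι] {F : Type v} [Field F] {p : ℕ} [CharP F p]
variable {Γ : Type u} [Group Γ] [Finite Γ] {σ : Γ →* SpecialLinearGroup (ι ⊕ Unit) F}

local notation "SLS" => SpecialLinearGroup (ι ⊕ Unit) F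

/-- Matrix action through `σ`. -/
def act (σ : Γ →* SLS) (g : Γ) (v : ι ⊕ Unit → F) : ι ⊕ Unit → F :=
  ((σ g : SLS) : Matrix (ι ⊕ Unit) (ι ⊕ Unit) F) *ᵥ v

omit [Finite Γ] [CharP F p] in
theorem act_mul (g h : Γ) (v : ι ⊕ Unit → F) : act σ (g * h) v = act σ g (act σ h v) := by
  simp [act, mulVec_mulVec]

omit [Finite Γ] [CharP F p] in
theorem act_one (v : ι ⊕ Unit → F) : act σ 1 v = v := by simp [act]

omit [Finite Γ] [CharP F p] in
theorem act_inv_act (g : Γ) (v : ι ⊕ Unit → F) : act σ g⁻¹ (act σ g v) = v := by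
  rw [← act_mul, inv_mul_cancel, act_one]

omit [Finite Γ] [CharP F p] in
theorem act_ne_zero (g : Γ) {v : ι ⊕ Unit → F} (hv : v ≠ 0) : act σ g v ≠ 0 := fun h => hv (by
  rw [← act_inv_act (σ := σ) g v, h]; simp [act])

/-- The `p`-generated lift of the stabiliser. -/
def QQ (p : ℕ) (σ : Γ →* SLS) : Subgroup Γ :=
  Subgroup.closure {g | Pel p g ∧ act σ g ev = ev}

omit [Finite Γ] [CharP F p] in
theorem mem_QQ {g : Γ} (hg : Pel p g) (h : act σ g ev = ev) : g ∈ QQ p σ :=
  Subgroup.subset_closure ⟨hg, h⟩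

theorem pel_tv {κ : Type w} [Fintype κ] [DecidableEq κ] {d φ : κ → F} (h : φ ⬝ᵥ d = 0) :
    Pel p (tv d φ h) := ⟨1, by rw [pow_one]; exact tv_pow_char p h⟩

omit [Finite Γ] in
/-- The kernel meets the lifted stabiliser trivially. -/
theorem QQ_inf_ker (E : PExt p σ) [Finite F] (ih : PTriv.{u} p (SpecialLinearGroup ι F))
    [Finite Γ] : QQ p σ ⊓ σ.ker = ⊥ := by
  classical
  have hsurjL : (hat p σ (emb (ι := ι) (F := F)).range).map σ = (emb (ι := ι) (F := F)).range := by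
    refine E.map_hat (S := emb '' {A : SpecialLinearGroup ι F |
      ∃ (i j : ι) (hij : i ≠ j) (c : F), A = SpecialLinearGroup.transvection hij c}) ?_ ?_ ?_
    · rw [← MonoidHom.map_closure, LinearGroup.closure_transvection_eq_top, ← MonoidHom.range_eq_map]
    · rintro _ ⟨A, _, rfl⟩; exact ⟨A, rfl⟩
    · rintro _ ⟨A, ⟨i, j, hij, c, rfl⟩, rfl⟩
      refine Pel.map emb ?_
      rw [transvection_eq_tv]
      exact pel_tv _
  set HL := hat p σ (emb (ι := ι) (F := F)).range with hHL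
  -- the block part
  let τ₀ : HL →* (emb (ι := ι) (F := F)).range :=
    (σ.comp HL.subtype).codRestrict _ fun g => hat_le_comap (σ := σ) _ g.2
  let τ : HL →* SpecialLinearGroup ι F :=
    (MonoidHom.ofInjective emb_injective).symm.toMonoidHom.comp τ₀
  have hτ : ∀ g : HL, emb (τ g) = σ g := fun g => by
    have := congrArg Subtype.val ((MonoidHom.ofInjective
      (emb_injective (ι := ι) (F := F))).apply_symm_apply (τ₀ g))
    exact this
  have hker : ∀ g : HL, g ∈ τ.ker ↔ (g : Γ) ∈ σ.ker := fun g => by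
    rw [MonoidHom.mem_ker, MonoidHom.mem_ker, ← hτ g, map_eq_one_iff _ emb_injective]
  have Eτ : PExt p τ := by
    refine ⟨E.prime, fun A => ?_, fun g hg => ?_, fun hd => E.coprime ?_⟩
    · obtain ⟨g, hg, he⟩ : emb A ∈ HL.map σ := hsurjL.symm ▸ ⟨A, rfl⟩
      exact ⟨⟨g, hg⟩, emb_injective ((hτ ⟨g, hg⟩).trans he)⟩
    · rw [Subgroup.mem_center_iff]
      intro x
      exact Subtype.ext (Subgroup.mem_center_iff.1 (E.central ((hker g).1 hg)) x)
    · refine hd.trans (Subgroup.card_dvd_of_injective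
        ((HL.subtype.comp τ.ker.subtype).codRestrict σ.ker fun g => (hker g).1 g.2) ?_)
      intro a b h
      exact Subtype.ext (Subtype.ext (congrArg Subtype.val h :))
  have hgenL : Subgroup.closure {g : HL | Pel p g} = ⊤ := by
    rw [eq_top_iff]
    refine le_trans (le_of_eq Subgroup.closure_closure_coe_preimage.symm) (Subgroup.closure_mono ?_)
    rintro ⟨g, hg⟩ ⟨⟨k, hk⟩, _⟩
    exact ⟨k, Subtype.ext hk⟩
  have hLker : ∀ g ∈ HL, σ g = 1 → g = 1 := fun g hg h1 => by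
    have h2 : (⟨g, hg⟩ : HL) ∈ τ.ker := (hker _).2 h1
    rw [ih HL τ Eτ hgenL, Subgroup.mem_bot] at h2
    exact congrArg Subtype.val h2
  -- the rows
  let R : Set Γ := {g | Pel p g ∧ ∃ r : ι → F, σ g = tv ev (Sum.elim r 0) (by simp [dot_ev])}
  have hRadd : ∀ r r' : ι → F, (tv ev (Sum.elim r 0) (by simp [dot_ev]) : SLS) *
      tv ev (Sum.elim r' 0) (by simp [dot_ev]) = tv ev (Sum.elim (r + r') 0) (by simp [dot_ev]) := by
    intro r r'
    rw [tv_mul_dir _ _ (by simp [dot_ev])]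
    exact tv_congr rfl (by ext (i | i) <;> simp) _ _
  let PR : Subgroup Γ :=
    { carrier := R
      one_mem' := ⟨pel_one, 0, by
        rw [map_one, tv_congr rfl (show (Sum.elim (0 : ι → F) 0 : ι ⊕ Unit → F) = 0 by
          ext (i | i) <;> rfl) _ (zero_dotProduct ev), tv_zero_right]⟩
      mul_mem' := by
        rintro a b ⟨ha, r, hr⟩ ⟨hb, r', hr'⟩
        refine ⟨ha.mul hb (E.commute ha hb ?_), r + r', by rw [map_mul, hr, hr', hRadd]⟩
        rw [hr, hr']; exact tv_commute_dir _ _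
      inv_mem' := by
        rintro a ⟨ha, r, hr⟩
        refine ⟨ha.inv, -r, ?_⟩
        rw [map_inv, hr]
        refine inv_eq_of_mul_eq_one_right ?_
        rw [hRadd, tv_congr rfl (show (Sum.elim (r + -r) 0 : ι ⊕ Unit → F) = 0 by
          ext (i | i) <;> simp) _ (zero_dotProduct ev), tv_zero_right] }
  have hnorm : ∀ l ∈ HL, ∀ a ∈ PR, l * a * l⁻¹ ∈ PR := by
    intro l hl a ⟨ha, r, hr⟩
    refine ⟨ha.conj l, ?_⟩
    obtain ⟨A, hA⟩ := hat_le_comap (σ := σ) _ hl
    rw [map_mul, map_mul, map_inv, ← hA, hr]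
    refine ⟨r ᵥ* ((A⁻¹ : SpecialLinearGroup ι F) : Matrix ι ι F), ?_⟩
    rw [tv_conj _ _ _ _ (by rw [conj_dot]; simp [dot_ev])]
    refine tv_congr (emb_mulVec_ev A) ?_ _ _
    rw [← map_inv, emb_coe, vecMul_fromBlocks]
    simp
  let M : Subgroup Γ :=
    { carrier := {g | ∃ l ∈ HL, ∃ a ∈ PR, g = l * a}
      one_mem' := ⟨1, one_mem _, 1, one_mem _, (mul_one 1).symm⟩
      mul_mem' := by
        rintro _ _ ⟨l, hl, a, ha, rfl⟩ ⟨l', hl', a', ha', rfl⟩
        refine ⟨l * l', mul_mem hl hl', l'⁻¹ * a * l' * a', mul_mem ?_ ha', by group⟩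
        have := hnorm l'⁻¹ (inv_mem hl') a ha
        rwa [inv_inv] at this
      inv_mem' := by
        rintro _ ⟨l, hl, a, ha, rfl⟩
        exact ⟨l⁻¹, inv_mem hl, l * a⁻¹ * l⁻¹, hnorm l hl _ (inv_mem ha), by group⟩ }
  have hMker : ∀ g ∈ M, σ g = 1 → g = 1 := by
    rintro _ ⟨l, hl, a, ha, rfl⟩ h1
    obtain ⟨A, hA⟩ := hat_le_comap (σ := σ) _ hl
    obtain ⟨hap, r, hr⟩ := ha
    rw [map_mul, ← hA, hr] at h1
    have h2 := congrArg Subtype.val h1
    rw [SpecialLinearGroup.coe_mul, emb_coe, tv_row_coe, fromBlocks_multiply,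
      SpecialLinearGroup.coe_one] at h2
    have hA1 : A = 1 := Subtype.ext (by
      ext i j
      have := congrFun (congrFun h2 (Sum.inl i)) (Sum.inl j)
      simpa [Matrix.one_apply] using this)
    have hl1 : l = 1 := hLker l hl (by rw [← hA, hA1, map_one])
    have hr1 : σ a = 1 := by
      rw [hr]
      rw [hA1, map_one, one_mul] at h1
      exact h1
    rw [hl1, one_mul]
    exact E.ker_pel hr1 hap
  have hle : QQ p σ ≤ M := by
    rw [QQ, Subgroup.closure_le]
    rintro g ⟨hg, hge⟩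
    obtain ⟨A, r, hAr⟩ := exists_decomp hge
    obtain ⟨l, hl, hlA⟩ : emb A ∈ HL.map σ := hsurjL.symm ▸ ⟨A, rfl⟩
    set x : SLS := tv ev (Sum.elim r 0) (by simp [dot_ev]) with hx
    set a := E.pl x (pel_tv _) with ha
    have haR : a ∈ PR := ⟨E.pel_pl _, r, E.map_pl _⟩
    have hm : l * a ∈ M := ⟨l, hl, a, haR, rfl⟩
    set z := (l * a)⁻¹ * g with hz
    have hzk : z ∈ σ.ker := by
      rw [MonoidHom.mem_ker, hz, map_mul, map_inv, map_mul, hlA, ha, E.map_pl, hAr, inv_mul_cancel]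
    have hgz : g = l * a * z := by rw [hz]; group
    have hc : Commute (l * a) z := Subgroup.mem_center_iff.1 (E.central hzk) _
    obtain ⟨k, hk⟩ := hg
    rw [hgz, hc.mul_pow] at hk
    have hzM : z ^ p ^ k ∈ M := by
      rw [eq_inv_of_mul_eq_one_right hk]; exact M.inv_mem (M.pow_mem hm _)
    have hz1 : z = 1 := E.ker_pel hzk ⟨k, hMker _ hzM (by rw [map_pow, hzk, one_pow])⟩
    rw [hgz, hz1, mul_one]
    exact hm
  rw [eq_bot_iff]
  rintro g ⟨hg, hg1⟩
  exact hMker g (hle hg) hg1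

variable (E : PExt p σ)

/-- The lifted transvection with centre `b`. -/
noncomputable def Vl (b : ι → F) : Γ := E.pl (tv (bar b) ev (ev_dot_bar b)) (pel_tv _)

omit [Finite Γ] in
theorem pel_Vl (b : ι → F) : Pel p (Vl E b) := E.pel_pl _

omit [Finite Γ] in
theorem map_Vl (b : ι → F) : σ (Vl E b) = tv (bar b) ev (ev_dot_bar b) := E.map_pl _

omit [Finite Γ] in
theorem Vl_add (a b : ι → F) : Vl E (a + b) = Vl E a * Vl E b := by
  refine E.uniq (pel_Vl E _) ((pel_Vl E _).mul (pel_Vl E _) (E.commute (pel_Vl E _) (pel_Vl E _) ?_)) ?_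
  · rw [map_Vl, map_Vl]; exact tv_commute_fix _ _
  · rw [map_mul, map_Vl, map_Vl, map_Vl, tv_mul_fix _ _
      (by rw [← bar_add, ev_dot_bar])]
    exact tv_congr (bar_add a b) rfl _ _

omit [Finite Γ] in
theorem act_Vl (b : ι → F) (v : ι ⊕ Unit → F) :
    act σ (Vl E b) v = v + v (Sum.inr ()) • bar b := by
  rw [act, map_Vl, tv_mulVec, ev_dot]

omit [Fintype ι] in
/-- A functional for a vector with a nonzero first part. -/
noncomputable def phiv (v : ι ⊕ Unit → F) (h : ∃ i, v (Sum.inl i) ≠ 0) : ι ⊕ Unit → F :=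
  Sum.elim (Pi.single h.choose ((1 - v (Sum.inr ())) / v (Sum.inl h.choose))) 1

theorem dot_sub_ev {φ v : ι ⊕ Unit → F} (h1 : φ ⬝ᵥ ev = 1) (h2 : φ ⬝ᵥ v = 1) :
    φ ⬝ᵥ (v - ev) = 0 := by rw [dotProduct_sub, h1, h2, sub_self]

theorem phiv_ev (v : ι ⊕ Unit → F) (h : ∃ i, v (Sum.inl i) ≠ 0) : phiv v h ⬝ᵥ ev = 1 := by
  rw [dot_ev]; rfl

theorem phiv_self (v : ι ⊕ Unit → F) (h : ∃ i, v (Sum.inl i) ≠ 0) : phiv v h ⬝ᵥ v = 1 := by
  have hi := h.choose_spec
  rw [phiv, dotProduct, Fintype.sum_sum_type]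
  simp [Pi.single_apply, hi]

/-- A standard vector. -/
def std (i₀ : ι) (c : F) : ι ⊕ Unit → F := Sum.elim (Pi.single i₀ 1) (fun _ => c)

theorem std_ne (i₀ : ι) (c : F) : ∃ i, std i₀ c (Sum.inl i) ≠ 0 := ⟨i₀, by simp [std]⟩

open Classical in
/-- The representative over a vector. -/
noncomputable def rep (i₀ : ι) (v : ι ⊕ Unit → F) : Γ :=
  if h : ∃ i, v (Sum.inl i) ≠ 0 then
    E.pl (tv (v - ev) (phiv v h) (dot_sub_ev (phiv_ev v h) (phiv_self v h))) (pel_tv _)
  else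
    Vl E ((-(v (Sum.inr ()))⁻¹) • Pi.single i₀ 1) *
      E.pl (tv (std i₀ (v (Sum.inr ())) - ev) (phiv _ (std_ne i₀ (v (Sum.inr ()))))
        (dot_sub_ev (phiv_ev _ _) (phiv_self _ _))) (pel_tv _)

/-- Equivariance at a point. -/
def Equi (i₀ : ι) (g : Γ) (v : ι ⊕ Unit → F) : Prop :=
  (rep E i₀ (act σ g v))⁻¹ * g * rep E i₀ v ∈ QQ p σ

omit [Finite Γ] in
theorem Equi.mul {i₀ : ι} {g h : Γ} {v : ι ⊕ Unit → F} (hg : Equi E i₀ g (act σ h v))
    (hh : Equi E i₀ h v) : Equi E i₀ (g * h) v := by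
  have := mul_mem hg hh
  rw [← act_mul] at this
  unfold Equi
  convert this using 1
  group

omit [Finite Γ] in
theorem Equi.inv {i₀ : ι} {g : Γ} {v : ι ⊕ Unit → F} (hg : Equi E i₀ g v) :
    Equi E i₀ g⁻¹ (act σ g v) := by
  have := inv_mem hg
  unfold Equi
  rw [act_inv_act]
  convert this using 1
  group

omit [Finite Γ] in
theorem rep_generic (i₀ : ι) {v φ : ι ⊕ Unit → F} (h : ∃ i, v (Sum.inl i) ≠ 0)
    (h1 : φ ⬝ᵥ ev = 1) (h2 : φ ⬝ᵥ v = 1) :
    (rep E i₀ v)⁻¹ * E.pl (tv (v - ev) φ (dot_sub_ev h1 h2)) (pel_tv _) ∈ QQ p σ := by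
  rw [rep, dif_pos h]
  refine mem_QQ ((E.pel_pl _).inv.mul (E.pel_pl _) (E.commute (E.pel_pl _).inv (E.pel_pl _) ?_)) ?_
  · rw [map_inv, E.map_pl, E.map_pl]; exact (tv_commute_dir _ _).inv_left
  · rw [act, map_mul, map_inv, E.map_pl, E.map_pl, tv_inv, SpecialLinearGroup.coe_mul,
      ← mulVec_mulVec, tv_mulVec, tv_mulVec, h1, dotProduct_add, dotProduct_smul,
      phiv_ev, dot_sub_ev (phiv_ev v h) (phiv_self v h)]
    simp only [smul_zero, add_zero, one_smul]
    abel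

omit [Finite Γ] in
theorem act_rep (i₀ : ι) {v : ι ⊕ Unit → F} (hv : v ≠ 0) : act σ (rep E i₀ v) ev = v := by
  rw [rep]
  split_ifs with h
  · rw [act, E.map_pl, tv_mulVec, phiv_ev, one_smul, add_sub_cancel]
  · push Not at h
    have hc : v (Sum.inr ()) ≠ 0 := fun hc => hv (by
      ext (i | i)
      · exact h i
      · exact hc)
    rw [act_mul]
    have : act σ (E.pl (tv (std i₀ (v (Sum.inr ())) - ev) (phiv _ (std_ne i₀ (v (Sum.inr ()))))
        (dot_sub_ev (phiv_ev _ _) (phiv_self _ _))) (pel_tv _)) ev = std i₀ (v (Sum.inr ())) := by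
      rw [act, E.map_pl, tv_mulVec, phiv_ev, one_smul, add_sub_cancel]
    rw [this, act_Vl]
    ext (i | i)
    · simp [std, bar, h i, hc, ← mul_assoc]
    · simp [std, bar]

omit [Finite Γ] in
theorem equi_fix (i₀ : ι) {g : Γ} (hg : Pel p g) {v : ι ⊕ Unit → F} (hv : v ≠ 0)
    (h : act σ g v = v) : Equi E i₀ g v := by
  unfold Equi
  rw [h]
  refine mem_QQ ?_ ?_
  · have := hg.conj (rep E i₀ v)⁻¹
    rwa [inv_inv] at this
  · rw [act_mul, act_mul, act_rep E i₀ hv, h]
    have h3 := act_inv_act (σ := σ) (rep E i₀ v) ev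
    rwa [act_rep E i₀ hv] at h3

omit [Finite Γ] in
theorem equi_stab (i₀ : ι) {g : Γ} (hg : Pel p g) (hge : act σ g ev = ev) {v : ι ⊕ Unit → F}
    (hv : v ≠ 0) : Equi E i₀ g v := by
  by_cases h : ∃ i, v (Sum.inl i) ≠ 0
  swap
  · refine equi_fix E i₀ hg hv ?_
    push Not at h
    have hv' : v = v (Sum.inr ()) • ev := by
      ext (i | i)
      · simp [ev, h i]
      · simp [ev]
    rw [hv']
    unfold act at hge ⊢
    rw [mulVec_smul, hge]
  have h' : ∃ i, act σ g v (Sum.inl i) ≠ 0 := by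
    by_contra hc
    push Not at hc
    obtain ⟨i, hi⟩ := h
    have hw : act σ g v = act σ g v (Sum.inr ()) • ev := by
      ext (i | i)
      · simp [ev, hc i]
      · simp [ev]
    have h2 := congrArg (act σ g⁻¹) hw
    rw [act_inv_act] at h2
    have h3 : act σ g⁻¹ ev = ev := by
      conv_lhs => rw [← hge]
      rw [act_inv_act]
    rw [act, mulVec_smul, show ((σ g⁻¹ : SLS) : Matrix (ι ⊕ Unit) (ι ⊕ Unit) F) *ᵥ ev = ev from h3]
      at h2
    exact hi (by rw [h2]; simp [ev])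
  set φ' := phiv v h ᵥ* (((σ g)⁻¹ : SLS) : Matrix (ι ⊕ Unit) (ι ⊕ Unit) F) with hφ'
  have e1 : φ' ⬝ᵥ ev = 1 := by
    have := conj_dot (σ g) (ev : ι ⊕ Unit → F) (phiv v h)
    rw [show ((σ g : SLS) : Matrix (ι ⊕ Unit) (ι ⊕ Unit) F) *ᵥ ev = ev from hge, phiv_ev] at this
    exact this
  have e2 : φ' ⬝ᵥ act σ g v = 1 := by
    rw [hφ', act, conj_dot, phiv_self]
  have hconj : g * rep E i₀ v * g⁻¹ =
      E.pl (tv (act σ g v - ev) φ' (dot_sub_ev e1 e2)) (pel_tv _) := by
    rw [rep, dif_pos h]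
    refine E.uniq ((E.pel_pl _).conj g) (E.pel_pl _) ?_
    rw [map_mul, map_mul, map_inv, E.map_pl, E.map_pl,
      tv_conj _ _ _ _ (by rw [conj_dot, dot_sub_ev (phiv_ev v h) (phiv_self v h)])]
    exact tv_congr (by rw [mulVec_sub]; exact congrArg _ hge) rfl _ _
  unfold Equi
  have := mul_mem (rep_generic E i₀ h' e1 e2) (mem_QQ hg hge)
  rw [← hconj] at this
  convert this using 1
  group

omit [Finite Γ] in
theorem equi_direct (i₀ : ι) {v : ι ⊕ Unit → F} (b : ι → F)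
    (hind : ∀ t : F, v ∘ Sum.inl ≠ t • b) : Equi E i₀ (Vl E b) v := by
  set a := v ∘ Sum.inl with ha
  set c := v (Sum.inr ()) with hc
  have ha0 : ∃ i, v (Sum.inl i) ≠ 0 := by
    obtain ⟨i, hi⟩ := Function.ne_iff.1 (hind 0)
    exact ⟨i, fun h => hi (by simpa [ha] using h)⟩
  obtain ⟨ψ, hψa, hψb⟩ := exists_functional hind (1 - c)
  set φ : ι ⊕ Unit → F := Sum.elim ψ 1 with hφ
  have hφe : φ ⬝ᵥ ev = 1 := by rw [dot_ev]; rfl
  have hφb : φ ⬝ᵥ bar b = 0 := by rw [dot_bar]; exact hψb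
  have hφv : φ ⬝ᵥ v = 1 := by
    rw [hφ, dotProduct, Fintype.sum_sum_type]
    simp only [Sum.elim_inl, Sum.elim_inr, Pi.one_apply, one_mul]
    rw [show ∑ i, ψ i * v (Sum.inl i) = ψ ⬝ᵥ a from rfl, hψa]
    simp [hc]
  set w := v + bar b with hw
  have hw0 : ∃ i, w (Sum.inl i) ≠ 0 := by
    obtain ⟨i, hi⟩ := Function.ne_iff.1 (hind (-1))
    refine ⟨i, fun h0 => hi ?_⟩
    simp only [hw, Pi.add_apply, bar, Sum.elim_inl] at h0
    simp only [Pi.smul_apply, smul_eq_mul, ha, Function.comp_apply]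
    linear_combination h0
  have hφw : φ ⬝ᵥ w = 1 := by rw [hw, dotProduct_add, hφv, hφb, add_zero]
  -- split the transvection
  set t1 := E.pl (tv (bar b) φ hφb) (pel_tv _) with ht1
  have h2 : (ev - φ) ⬝ᵥ bar b = 0 := by rw [sub_dotProduct, ev_dot_bar, hφb, sub_zero]
  set t2 := E.pl (tv (bar b) (ev - φ) h2) (pel_tv _) with ht2
  have hsplit : Vl E b = t2 * t1 := by
    refine E.uniq (E.pel_pl _) ((E.pel_pl _).mul (E.pel_pl _) (E.commute (E.pel_pl _) (E.pel_pl _) ?_)) ?_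
    · rw [E.map_pl, E.map_pl]; exact tv_commute_dir _ _
    · rw [map_mul, map_Vl, ht1, ht2, E.map_pl, E.map_pl,
        tv_mul_dir _ _ (by rw [sub_add_cancel, ev_dot_bar])]
      exact tv_congr rfl (sub_add_cancel _ _).symm _ _
  have hact1 : act σ t1 v = w := by rw [act, ht1, E.map_pl, tv_mulVec, hφv, one_smul]
  have he1 : Equi E i₀ t1 v := by
    have hxy : t1 * E.pl (tv (v - ev) φ (dot_sub_ev hφe hφv)) (pel_tv _) =
        E.pl (tv (w - ev) φ (dot_sub_ev hφe hφw)) (pel_tv _) := by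
      refine E.uniq ((E.pel_pl _).mul (E.pel_pl _) (E.commute (E.pel_pl _) (E.pel_pl _) ?_))
        (E.pel_pl _) ?_
      · rw [E.map_pl, E.map_pl]; exact tv_commute_fix _ _
      · rw [map_mul, ht1, E.map_pl, E.map_pl, E.map_pl,
          tv_mul_fix _ _ (by rw [dotProduct_add, hφb, dot_sub_ev hφe hφv, add_zero])]
        exact tv_congr (by rw [hw]; abel) rfl _ _
    unfold Equi
    rw [hact1]
    have := mul_mem (rep_generic E i₀ hw0 hφe hφw) (inv_mem (rep_generic E i₀ ha0 hφe hφv))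
    rw [← hxy] at this
    convert this using 1
    group
  have hw1 : w ≠ 0 := fun h => by obtain ⟨i, hi⟩ := hw0; exact hi (by rw [h]; rfl)
  have he2 : Equi E i₀ t2 w := equi_stab E i₀ (E.pel_pl _) (by
    rw [act, E.map_pl, tv_mulVec, sub_dotProduct, hφe]
    simp [dot_ev, ev]) hw1
  rw [hsplit]
  exact Equi.mul E (hact1 ▸ he2) he1

omit [Finite Γ] in
theorem equi_generic (h2 : 2 ≤ Fintype.card ι) (i₀ : ι) {v : ι ⊕ Unit → F} (b : ι → F)
    (ha : v ∘ Sum.inl ≠ 0) (hab : v ∘ Sum.inl + v (Sum.inr ()) • b ≠ 0) :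
    Equi E i₀ (Vl E b) v := by
  set a := v ∘ Sum.inl with hadef
  set c := v (Sum.inr ()) with hc
  by_cases hind : ∀ t : F, a ≠ t • b
  · exact equi_direct E i₀ b hind
  push Not at hind
  obtain ⟨l, hl⟩ := hind
  have hb0 : b ≠ 0 := fun h => ha (by rw [hl, h, smul_zero])
  have hl0 : l ≠ 0 := fun h => ha (by rw [hl, h, zero_smul])
  obtain ⟨i, hi⟩ := Function.ne_iff.1 hb0
  rw [Pi.zero_apply] at hi
  haveI : Nontrivial ι := Fintype.one_lt_card_iff_nontrivial.1 h2
  obtain ⟨j, hj⟩ := exists_ne i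
  set b₁ : ι → F := Pi.single j 1 with hb₁
  have hai : a i ≠ 0 := by rw [hl, Pi.smul_apply, smul_eq_mul]; exact mul_ne_zero hl0 hi
  have hd1 : Equi E i₀ (Vl E b₁) v := equi_direct E i₀ b₁ fun t ht => hai (by
    rw [hadef] at *
    rw [ht]; simp [hb₁, hj.symm])
  set v₁ := act σ (Vl E b₁) v with hv₁
  have hv₁' : v₁ ∘ Sum.inl = a + c • b₁ := by
    ext k; simp [hv₁, act_Vl, bar, hadef, hc]
  have hd2 : Equi E i₀ (Vl E (b - b₁)) v₁ := equi_direct E i₀ (b - b₁) fun t ht => hab (by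
    rw [hv₁', hl] at ht
    have hti := congrFun ht i
    simp [hb₁, hj.symm] at hti
    have htl : t = l := by
      rcases hti with h | h
      · exact h.symm
      · exact absurd h hi
    have htj := congrFun ht j
    simp [hb₁, htl] at htj
    have hc' : c = -l := by linear_combination htj
    rw [hl, hc', neg_smul, add_neg_cancel])
  have := Equi.mul E hd2 hd1
  rwa [← Vl_add, sub_add_cancel] at this

omit [Finite Γ] in
theorem Vl_zero : Vl E (0 : ι → F) = 1 :=
  E.uniq (E.pel_pl _) pel_one (by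
    rw [map_Vl, map_one, tv_congr bar_zero rfl _ (dotProduct_zero ev), tv_zero_left])

omit [Finite Γ] in
theorem equi_base (h2 : 2 ≤ Fintype.card ι) (i₀ : ι) {v : ι ⊕ Unit → F} (b : ι → F)
    (ha : v ∘ Sum.inl = 0) (hv : v ≠ 0) : Equi E i₀ (Vl E b) v := by
  have hc : v (Sum.inr ()) ≠ 0 := fun hc => hv (by
    ext (i | i)
    · exact congrFun ha i
    · exact hc)
  set c := v (Sum.inr ()) with hcdef
  have hne : ¬ ∃ i, v (Sum.inl i) ≠ 0 := by
    push Not; exact fun i => congrFun ha i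
  by_cases hb : b = 0
  · rw [hb, Vl_zero]
    unfold Equi
    rw [act_one]
    simp
  set a₀ : ι → F := Pi.single i₀ 1 with ha₀
  set v₀ : ι ⊕ Unit → F := std i₀ c with hv₀
  set b' := (-c⁻¹) • a₀ with hb'
  have hrep : rep E i₀ v = Vl E b' * rep E i₀ v₀ := by
    conv_lhs => rw [rep, dif_neg hne]
    conv_rhs => rw [rep, dif_pos (std_ne i₀ c)]
  have h0 : v₀ ∘ Sum.inl ≠ 0 := by
    obtain ⟨i, hi⟩ := std_ne i₀ c
    exact fun h => hi (congrFun h i)
  have h := equi_generic E h2 i₀ (v := v₀) (b + b') h0 (fun h0' => hb (by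
    ext i
    have hi := congrFun h0' i
    simp [hv₀, std, hb', ha₀] at hi
    rw [← mul_assoc c c⁻¹, mul_inv_cancel₀ hc, one_mul] at hi
    have : c * b i = 0 := by linear_combination hi
    simpa [hc] using this))
  have hv' : act σ (Vl E (b + b')) v₀ = act σ (Vl E b) v := by
    rw [act_Vl, act_Vl]
    ext (i | i)
    · simp [hv₀, std, bar, hb', ha₀, show v (Sum.inl i) = 0 from congrFun ha i, ← hcdef, mul_add,
        ← mul_assoc, hc]
    · simp [hv₀, std, bar, hcdef]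
  unfold Equi at h ⊢
  rw [hv', Vl_add] at h
  rw [hrep]
  convert h using 1
  group

omit [Finite Γ] in
theorem equi_Vl (h2 : 2 ≤ Fintype.card ι) (i₀ : ι) {v : ι ⊕ Unit → F} (b : ι → F) (hv : v ≠ 0) :
    Equi E i₀ (Vl E b) v := by
  by_cases ha : v ∘ Sum.inl = 0
  · exact equi_base E h2 i₀ b ha hv
  by_cases hab : v ∘ Sum.inl + v (Sum.inr ()) • b = 0
  swap
  · exact equi_generic E h2 i₀ b ha hab
  set w := act σ (Vl E b) v with hw
  have hw' : w ∘ Sum.inl = 0 := by
    rw [← hab]; ext k; simp [hw, act_Vl, bar]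
  have hinv : (Vl E (-b)) = (Vl E b)⁻¹ :=
    eq_inv_of_mul_eq_one_left (by rw [← Vl_add, neg_add_cancel, Vl_zero])
  have h := (equi_base E h2 i₀ (-b) hw' (act_ne_zero _ hv)).inv E
  rw [hinv, hw, act_inv_act, inv_inv] at h
  exact h

/-- **The inductive step.** -/
theorem ptriv_succ [Finite F] (h2 : 2 ≤ Fintype.card ι)
    (ih : PTriv.{u} p (SpecialLinearGroup ι F)) : PTriv.{u} p (SpecialLinearGroup (ι ⊕ Unit) F) := by
  intro Γ _ _ σ E hgen
  obtain ⟨i₀⟩ : Nonempty ι := Fintype.card_pos_iff.1 (by omega)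
  let H : Subgroup Γ :=
    { carrier := {g | ∀ v, v ≠ 0 → Equi E i₀ g v}
      one_mem' := fun v _ => by unfold Equi; rw [act_one]; simp
      mul_mem' := fun {g h} hg hh v hv => Equi.mul E (hg _ (act_ne_zero h hv)) (hh v hv)
      inv_mem' := fun {g} hg v hv => by
        have := (hg (act σ g⁻¹ v) (act_ne_zero g⁻¹ hv)).inv E
        rwa [← act_mul, mul_inv_cancel, act_one] at this }
  have hH : H = ⊤ := by
    refine E.eq_top hgen (LinearGroup.eq_top_of_transvection_mem fun i j hij c => ?_)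
    have hp : Pel p (SpecialLinearGroup.transvection hij c : SpecialLinearGroup (ι ⊕ Unit) F) := by
      rw [transvection_eq_tv]; exact pel_tv _
    refine ⟨E.pl _ hp, fun v hv => ?_, E.map_pl _⟩
    rcases j with j | j
    · refine equi_stab E i₀ (E.pel_pl _) ?_ hv
      rw [act, E.map_pl, transvection_eq_tv, tv_mulVec]
      simp [ev]
    · rcases i with i | i
      · have : E.pl _ hp = Vl E (Pi.single i c) := by
          refine E.uniq (E.pel_pl _) (E.pel_pl _) ?_
          rw [map_Vl, E.map_pl, transvection_eq_tv]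
          refine tv_congr ?_ ?_ _ _
          · ext (k | k) <;> simp [bar, Pi.single_apply]
          · ext (k | k) <;> simp [ev]
        rw [this]
        exact equi_Vl E h2 i₀ _ hv
      · exact absurd (Subsingleton.elim i j) (fun h => hij (congrArg Sum.inr h))
  rw [eq_bot_iff]
  intro z hz
  have hev : (ev : ι ⊕ Unit → F) ≠ 0 := fun h => by
    have := congrFun h (Sum.inr ())
    simp [ev] at this
  have h := (hH ▸ Subgroup.mem_top z : z ∈ H) ev hev
  have hact : act σ z ev = ev := by rw [act, hz]; simp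
  unfold Equi at h
  rw [hact, mul_assoc, ← Subgroup.mem_center_iff.1 (E.central hz) (rep E i₀ ev),
    inv_mul_cancel_left] at h
  exact (QQ_inf_ker E ih) ▸ Subgroup.mem_inf.2 ⟨h, hz⟩

end Step

end Cfsg.Agent.CharB.PSLMult
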