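import Cfsg.Agent.CharB.PSLMult.PPart
import Cfsg.Agent.Lib.LinearGroup.Card
import Cfsg.Agent.Lib.Schur.Transfer
import Mathlib.GroupTheory.Perm.Cycle.Type

/-!
The lifted unitriangular group meets the kernel trivially, hence the `p`-part of the multiplier of
`SL_n(q)` vanishes outside the exceptional cases (helper28).
-/

set_option autoImplicit false

namespace Cfsg.Agent.CharB.PSLMult

open Matrix
open scoped commutatorElement

universe u v w

section Glue

variable {Γ : Type u} [Group Γ] {G : Type v} [Group G]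

/-- Two subgroups, one normalised by the other, with injective images meeting trivially. -/
theorem glue (σ : Γ →* G) {X H : Subgroup Γ} (hnorm : ∀ h ∈ H, ∀ x ∈ X, h * x * h⁻¹ ∈ X)
    (hX : ∀ x ∈ X, σ x = 1 → x = 1) (hH : ∀ h ∈ H, σ h = 1 → h = 1)
    (hdis : ∀ x ∈ X, ∀ h ∈ H, σ x * σ h = 1 → σ x = 1) :
    (∀ g ∈ X ⊔ H, σ g = 1 → g = 1) ∧
      (∀ g ∈ X ⊔ H, ∃ x ∈ X, ∃ h ∈ H, g = x * h) ∧
      Nat.card ↥(X ⊔ H) = Nat.card X * Nat.card H := by
  let M : Subgroup Γ :=
    { carrier := {g | ∃ x ∈ X, ∃ h ∈ H, g = x * h}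
      one_mem' := ⟨1, one_mem _, 1, one_mem _, (mul_one 1).symm⟩
      mul_mem' := by
        rintro _ _ ⟨x, hx, h, hh, rfl⟩ ⟨x', hx', h', hh', rfl⟩
        exact ⟨x * (h * x' * h⁻¹), mul_mem hx (hnorm h hh x' hx'), h * h', mul_mem hh hh', by group⟩
      inv_mem' := by
        rintro _ ⟨x, hx, h, hh, rfl⟩
        exact ⟨h⁻¹ * x⁻¹ * (h⁻¹)⁻¹, hnorm h⁻¹ (inv_mem hh) x⁻¹ (inv_mem hx), h⁻¹, inv_mem hh,
          by group⟩ }
  have hM : X ⊔ H ≤ M := sup_le (fun x hx => ⟨x, hx, 1, one_mem _, (mul_one x).symm⟩)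
    (fun h hh => ⟨1, one_mem _, h, hh, (one_mul h).symm⟩)
  have hinj : ∀ x ∈ X, ∀ h ∈ H, σ (x * h) = 1 → x = 1 ∧ h = 1 := by
    intro x hx h hh e
    rw [map_mul] at e
    have h1 := hdis x hx h hh e
    rw [h1, one_mul] at e
    exact ⟨hX x hx h1, hH h hh e⟩
  refine ⟨fun g hg e => ?_, fun g hg => hM hg, ?_⟩
  · obtain ⟨x, hx, h, hh, rfl⟩ := hM hg
    obtain ⟨rfl, rfl⟩ := hinj x hx h hh e
    exact mul_one 1
  · rw [← Nat.card_prod]
    refine (Nat.card_congr (Equiv.ofBijective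
      (fun p : X × H => (⟨(p.1 : Γ) * p.2, Subgroup.mul_mem_sup p.1.2 p.2.2⟩ : ↥(X ⊔ H))) ⟨?_, ?_⟩)).symm
    · rintro ⟨⟨x, hx⟩, ⟨h, hh⟩⟩ ⟨⟨x', hx'⟩, ⟨h', hh'⟩⟩ e
      have e' : x * h = x' * h' := congrArg Subtype.val e
      have e2 : x'⁻¹ * x * (h * h'⁻¹) = 1 := by
        rw [show x'⁻¹ * x * (h * h'⁻¹) = x'⁻¹ * (x * h) * h'⁻¹ by group, e']; group
      obtain ⟨hx1, hh1⟩ := hinj _ (mul_mem (inv_mem hx') hx) _ (mul_mem hh (inv_mem hh')) (by
        rw [e2, map_one])
      rw [inv_mul_eq_one] at hx1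
      rw [mul_inv_eq_one] at hh1
      simp [hx1, hh1]
    · rintro ⟨g, hg⟩
      obtain ⟨x, hx, h, hh, rfl⟩ := hM hg
      exact ⟨(⟨x, hx⟩, ⟨h, hh⟩), rfl⟩

end Glue

variable {n : ℕ} {F : Type v} [Field F] [Finite F] {Γ : Type u} [Group Γ]
  {σ : Γ →* SpecialLinearGroup (Fin n) F} (E : CEx σ) (G : Good (Fin n) F)

/-- Lifted root elements of one column, rows below `r`. -/
noncomputable def colA (j : Fin n) (r : ℕ) : Subgroup Γ :=
  Subgroup.closure {g | ∃ i t, i < j ∧ (i : ℕ) < r ∧ g = Y E G i j t}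

theorem mem_colA {i j : Fin n} (hij : i < j) {r : ℕ} (hr : (i : ℕ) < r) (t : F) :
    Y E G i j t ∈ colA E G j r := Subgroup.subset_closure ⟨i, t, hij, hr, rfl⟩

theorem colA_image (j : Fin n) (r : ℕ) : ∀ g ∈ colA E G j r,
    ∃ (v : Fin n → F) (h : Pi.single j (1 : F) ⬝ᵥ v = 0),
      (∀ i : Fin n, r ≤ (i : ℕ) → v i = 0) ∧ σ g = tv v (Pi.single j 1) h := by
  intro g hg
  induction hg using Subgroup.closure_induction with
  | mem g hg =>
    obtain ⟨i, t, hij, hr, rfl⟩ := hg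
    refine ⟨Pi.single i t, by simp [hij.ne], fun k hk => ?_, ?_⟩
    · exact Pi.single_eq_of_ne (fun h => by subst h; omega) _
    · rw [map_Y E G hij.ne, T_of_ne hij.ne, transvection_eq_tv]
  | one => exact ⟨0, dotProduct_zero _, fun _ _ => rfl, by rw [map_one, tv_zero_left]⟩
  | mul a b _ _ ha hb =>
    obtain ⟨v, h, hv, ea⟩ := ha
    obtain ⟨v', h', hv', eb⟩ := hb
    have h'' : Pi.single j (1 : F) ⬝ᵥ (v + v') = 0 := by rw [dotProduct_add, h, h', add_zero]
    exact ⟨v + v', h'', fun k hk => by simp [hv k hk, hv' k hk],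
      by rw [map_mul, ea, eb, tv_mul_fix h h' h'']⟩
  | inv a _ ha =>
    obtain ⟨v, h, hv, ea⟩ := ha
    exact ⟨-v, by rw [dotProduct_neg, h, neg_zero], fun k hk => by simp [hv k hk],
      by rw [map_inv, ea, tv_inv]⟩

theorem colA_col {j : Fin n} {r : ℕ} {g : Γ} (hg : g ∈ colA E G j r) :
    (((σ g : SpecialLinearGroup (Fin n) F) : Matrix (Fin n) (Fin n) F) *ᵥ Pi.single j 1 =
      Pi.single j 1) → σ g = 1 := by
  intro e
  obtain ⟨v, h, _, ev⟩ := colA_image E G j r g hg
  rw [ev, tv_mulVec] at e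
  have h1 : (Pi.single j (1 : F) ⬝ᵥ (Pi.single j (1 : F) : Fin n → F)) = 1 := by simp
  rw [h1, one_smul, add_eq_left] at e
  rw [ev, tv_congr e rfl _ (dotProduct_zero _), tv_zero_left]

theorem colA_main (j : Fin n) : ∀ r : ℕ, r ≤ (j : ℕ) →
    (∀ g ∈ colA E G j r, σ g = 1 → g = 1) ∧ Nat.card (colA E G j r) = Nat.card F ^ r := by
  intro r
  induction r with
  | zero =>
    intro _
    have h0 : colA E G j 0 = ⊥ := by
      rw [colA, Subgroup.closure_eq_bot_iff]
      rintro g ⟨i, t, _, hr, _⟩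
      omega
    rw [h0]
    exact ⟨fun g hg _ => Subgroup.mem_bot.1 hg, by simp⟩
  | succ r ih =>
    intro hr
    obtain ⟨ih1, ih2⟩ := ih (by omega)
    let i : Fin n := ⟨r, by omega⟩
    have hij : i < j := by show r < (j : ℕ); omega
    let χ : Multiplicative F →* Γ :=
      { toFun := fun t => Y E G i j t.toAdd
        map_one' := Y_zero E G hij.ne
        map_mul' := fun a b => Y_add E G hij.ne _ _ }
    have hχinj : ∀ t, σ (χ t) = 1 → t = 1 := by
      intro t e
      have e2 : σ (Y E G i j t.toAdd) = 1 := e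
      rw [map_Y E G hij.ne] at e2
      have := congrFun (congrFun (congrArg Subtype.val e2) i) j
      rw [T_of_ne hij.ne] at this
      simp [SpecialLinearGroup.transvection_coe, Matrix.one_apply, hij.ne] at this
      exact Multiplicative.toAdd.injective this
    have hsup : colA E G j (r + 1) = χ.range ⊔ colA E G j r := by
      refine le_antisymm ?_ (sup_le ?_ ?_)
      · rw [colA, Subgroup.closure_le]
        rintro g ⟨k, t, hk, hkr, rfl⟩
        rcases Nat.lt_succ_iff_lt_or_eq.1 hkr with h | h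
        · exact Subgroup.mem_sup_right (mem_colA E G hk h t)
        · have : k = i := Fin.ext h
          subst this
          exact Subgroup.mem_sup_left ⟨Multiplicative.ofAdd t, rfl⟩
      · rintro _ ⟨t, rfl⟩
        exact mem_colA E G hij (Nat.lt_succ_self r) _
      · refine Subgroup.closure_mono ?_
        rintro g ⟨k, t, hk, hkr, rfl⟩
        exact ⟨k, t, hk, by omega, rfl⟩
    have hnorm : ∀ h ∈ colA E G j r, ∀ x ∈ χ.range, h * x * h⁻¹ ∈ χ.range := by
      intro h hh x hx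
      obtain ⟨t, rfl⟩ := hx
      have hc : colA E G j r ≤ Subgroup.centralizer {χ t} := by
        rw [colA, Subgroup.closure_le]
        rintro g ⟨k, u, hk, _, rfl⟩
        rw [SetLike.mem_coe, Subgroup.mem_centralizer_singleton_iff]
        exact (Y_commute E G hk.ne hij.ne hij.ne' hk.ne' u t.toAdd).eq
      rw [Subgroup.mem_centralizer_singleton_iff.1 (hc hh), mul_inv_cancel_right]
      exact ⟨t, rfl⟩
    have hX : ∀ x ∈ χ.range, σ x = 1 → x = 1 := by
      rintro _ ⟨t, rfl⟩ e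
      rw [hχinj t e, map_one]
    have hdis : ∀ x ∈ χ.range, ∀ h ∈ colA E G j r, σ x * σ h = 1 → σ x = 1 := by
      rintro _ ⟨t, rfl⟩ h hh e
      obtain ⟨v, hv0, hv, ev⟩ := colA_image E G j r h hh
      have hx : σ (χ t) = tv (Pi.single i t.toAdd) (Pi.single j 1) (by simp [hij.ne]) := by
        show σ (Y E G i j t.toAdd) = _
        rw [map_Y E G hij.ne, T_of_ne hij.ne, transvection_eq_tv]
      rw [hx, ev, tv_mul_fix _ _ (by rw [dotProduct_add, hv0]; simp [hij.ne])] at e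
      have e2 := congrFun (congrFun (congrArg Subtype.val e) i) j
      simp [tv_coe, vecMulVec_apply, Matrix.one_apply, hij.ne, hv i le_rfl] at e2
      rw [hx, tv_congr (show (Pi.single i t.toAdd : Fin n → F) = 0 by simp [e2]) rfl _ (dotProduct_zero _), tv_zero_left]
    obtain ⟨g1, -, g3⟩ := glue σ hnorm hX ih1 hdis
    rw [hsup]
    refine ⟨g1, ?_⟩
    rw [g3, ih2, pow_succ']
    congr 1
    have hi : Function.Injective χ := (injective_iff_map_eq_one χ).2 fun t e => hχinj t (by rw [e, map_one])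
    rw [← Nat.card_congr (MonoidHom.ofInjective hi).toEquiv]
    exact Nat.card_congr Multiplicative.toAdd

omit [Finite F] in
theorem mulVec_mul_sl (a b : SpecialLinearGroup (Fin n) F) (v : Fin n → F) :
    ((a * b : SpecialLinearGroup (Fin n) F) : Matrix (Fin n) (Fin n) F) *ᵥ v =
      (a : Matrix (Fin n) (Fin n) F) *ᵥ ((b : Matrix (Fin n) (Fin n) F) *ᵥ v) :=
  (mulVec_mulVec v (a : Matrix (Fin n) (Fin n) F) (b : Matrix (Fin n) (Fin n) F)).symm

omit [Finite F] in
theorem mulVec_one_sl (v : Fin n → F) :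
    ((1 : SpecialLinearGroup (Fin n) F) : Matrix (Fin n) (Fin n) F) *ᵥ v = v :=
  one_mulVec v

/-- The lifted unitriangular group on the first `m` columns. -/
noncomputable def HH (m : ℕ) : Subgroup Γ :=
  Subgroup.closure {g | ∃ (i j : Fin n) (t : F), i < j ∧ (j : ℕ) < m ∧ g = Y E G i j t}

theorem HH_fix (m : ℕ) (k : Fin n) (hk : m ≤ (k : ℕ)) : ∀ g ∈ HH E G m,
    ((σ g : SpecialLinearGroup (Fin n) F) : Matrix (Fin n) (Fin n) F) *ᵥ Pi.single k 1 =
      Pi.single k 1 := by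
  intro g hg
  induction hg using Subgroup.closure_induction with
  | mem g hg =>
    obtain ⟨i, j, t, hij, hj, rfl⟩ := hg
    rw [map_Y E G hij.ne, T_mulVec_single hij.ne, if_neg (fun h => by subst h; omega), add_zero]
  | one => rw [map_one]; exact mulVec_one_sl _
  | mul a b _ _ ha hb =>
    rw [map_mul]
    exact (mulVec_mul_sl _ _ _).trans ((congrArg _ hb).trans ha)
  | inv a _ ha =>
    conv_lhs => rw [← ha]
    refine (mulVec_mul_sl _ _ _).symm.trans ?_
    rw [← map_mul, inv_mul_cancel, map_one]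
    exact mulVec_one_sl _

theorem colA_norm {j : Fin n} {k l : Fin n} (hkl : k < l) (hlj : l < j) (u : F) :
    ∀ x ∈ colA E G j j, Y E G k l u * x * (Y E G k l u)⁻¹ ∈ colA E G j j := by
  intro x hx
  have hcm : colA E G j j ≤ Subgroup.comap (MulAut.conj (Y E G k l u)).toMonoidHom (colA E G j j) := by
    rw [colA, Subgroup.closure_le]
    rintro g ⟨i, t, hi, hir, rfl⟩
    show Y E G k l u * Y E G i j t * (Y E G k l u)⁻¹ ∈ colA E G j j
    by_cases hli : l = i
    · subst hli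
      have e : Y E G k l u * Y E G l j t * (Y E G k l u)⁻¹ =
          Y E G k j (u * t) * Y E G l j t := by
        rw [← Y_comm E G hkl.ne hi.ne (hkl.trans hi).ne, commutatorElement_def]; group
      rw [e]
      exact mul_mem (mem_colA E G (hkl.trans hi) (hkl.trans hi) _) (mem_colA E G hi hir t)
    · rw [(Y_commute E G hkl.ne hi.ne hli (hkl.trans hlj).ne' u t).eq, mul_inv_cancel_right]
      exact mem_colA E G hi hir t
  exact hcm hx

theorem HH_main : ∀ m : ℕ, m ≤ n →
    (∀ g ∈ HH E G m, σ g = 1 → g = 1) ∧ Nat.card (HH E G m) = Nat.card F ^ (∑ i ∈ Finset.range m, i) := by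
  intro m
  induction m with
  | zero =>
    intro _
    have h0 : HH E G 0 = ⊥ := by
      rw [HH, Subgroup.closure_eq_bot_iff]
      rintro g ⟨i, j, t, _, hj, _⟩
      omega
    rw [h0]
    exact ⟨fun g hg _ => Subgroup.mem_bot.1 hg, by simp⟩
  | succ m ih =>
    intro hm
    obtain ⟨ih1, ih2⟩ := ih (by omega)
    let j : Fin n := ⟨m, by omega⟩
    have hsup : HH E G (m + 1) = colA E G j j ⊔ HH E G m := by
      refine le_antisymm ?_ (sup_le ?_ ?_)
      · rw [HH, Subgroup.closure_le]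
        rintro g ⟨i, k, t, hik, hk, rfl⟩
        rcases Nat.lt_succ_iff_lt_or_eq.1 hk with h | h
        · exact Subgroup.mem_sup_right (Subgroup.subset_closure ⟨i, k, t, hik, h, rfl⟩)
        · have : k = j := Fin.ext h
          subst this
          exact Subgroup.mem_sup_left (mem_colA E G hik hik t)
      · refine Subgroup.closure_mono ?_
        rintro g ⟨i, t, hij, _, rfl⟩
        exact ⟨i, j, t, hij, Nat.lt_succ_self m, rfl⟩
      · refine Subgroup.closure_mono ?_
        rintro g ⟨i, k, t, hik, hk, rfl⟩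
        exact ⟨i, k, t, hik, by omega, rfl⟩
    have hnorm : ∀ h ∈ HH E G m, ∀ x ∈ colA E G j j, h * x * h⁻¹ ∈ colA E G j j := by
      intro h hh
      induction hh using Subgroup.closure_induction'' with
      | mem g hg =>
        obtain ⟨k, l, u, hkl, hl, rfl⟩ := hg
        exact colA_norm E G hkl hl u
      | inv_mem g hg =>
        obtain ⟨k, l, u, hkl, hl, rfl⟩ := hg
        rw [← Y_neg E G hkl.ne]
        exact colA_norm E G hkl hl (-u)
      | one => intro x hx; simpa using hx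
      | mul a b _ _ ha hb =>
        intro x hx
        rw [show a * b * x * (a * b)⁻¹ = a * (b * x * b⁻¹) * a⁻¹ by group]
        exact ha _ (hb x hx)
    obtain ⟨cA1, cA2⟩ := colA_main E G j j le_rfl
    have hdis : ∀ x ∈ colA E G j j, ∀ h ∈ HH E G m, σ x * σ h = 1 → σ x = 1 := by
      intro x hx h hh e
      refine colA_col E G hx ?_
      conv_lhs => rw [← HH_fix E G m j le_rfl h hh]
      refine (mulVec_mul_sl _ _ _).symm.trans ?_
      rw [e]
      exact mulVec_one_sl _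
    obtain ⟨g1, -, g3⟩ := glue σ hnorm cA1 ih1 hdis
    rw [hsup]
    exact ⟨g1, by rw [g3, cA2, ih2, ← pow_add, Finset.sum_range_succ, add_comm]⟩

omit E G in
/-- **The `p`-part.** -/
theorem not_dvd_card_ker {k : ℕ} {σ : Γ →* SpecialLinearGroup (Fin (k + 1)) F} [Finite Γ]
    (G : Good (Fin (k + 1)) F) (hσ : Cfsg.IsStemExtension σ) {p : ℕ} [CharP F p] (hp : p.Prime) :
    ¬ p ∣ Nat.card σ.ker := by
  intro hd
  haveI := Fact.mk hp
  obtain ⟨⟨w, hw⟩, hord⟩ := exists_prime_orderOf_dvd_card' p hd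
  rw [Subgroup.orderOf_mk] at hord
  have E : CEx σ := ⟨hσ.1, hσ.2.1⟩
  obtain ⟨hinj, hcard⟩ := HH_main E G (k + 1) le_rfl
  set H := HH E G (k + 1) with hH
  set S := H.map σ with hS
  have hSc : Nat.card S = Nat.card F ^ (∑ i : Fin (k + 1), (i : ℕ)) := by
    rw [Fin.sum_univ_eq_sum_range (fun i => i) (k + 1), ← hcard]
    refine (Nat.card_congr (Equiv.ofBijective (fun h : H => (⟨σ h, h, h.2, rfl⟩ : S)) ⟨?_, ?_⟩)).symm
    · rintro ⟨a, ha⟩ ⟨b, hb⟩ e
      have e' : σ a = σ b := congrArg Subtype.val e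
      exact Subtype.ext (mul_inv_eq_one.1 (hinj _ (mul_mem ha (inv_mem hb)) (by simp [e'])))
    · rintro ⟨_, a, ha, rfl⟩
      exact ⟨⟨a, ha⟩, rfl⟩
  have hidx := S.card_mul_index
  rw [hSc, LinearGroup.card_SL_eq_pow_mul_prod] at hidx
  have hidx' := Nat.eq_of_mul_eq_mul_left (pow_pos Nat.card_pos _) hidx
  have hpq : p ∣ Nat.card F := by
    haveI := Fintype.ofFinite F
    obtain ⟨e, -, he⟩ := FiniteField.card F p
    rw [Nat.card_eq_fintype_card, he]
    exact dvd_pow_self _ (by positivity)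
  have hnd : ¬ p ∣ S.index := by
    rw [hidx']
    intro h
    obtain ⟨i, -, hi⟩ := (Prime.dvd_finsetProd_iff hp.prime _).1 h
    have h1 : 1 ≤ Nat.card F ^ (i + 2) := Nat.one_le_pow _ _ Nat.card_pos
    have := Nat.dvd_sub (dvd_pow hpq (show i + 2 ≠ 0 by omega)) hi
    rw [Nat.sub_sub_self h1] at this
    exact hp.not_dvd_one this
  have hmem := Cfsg.Agent.Schur.pow_index_mem_commutator (S.comap σ) (hσ.2.1 hw) (hσ.2.2 hw)
  rw [Subgroup.map_subtype_commutator, Subgroup.index_comap_of_surjective S hσ.1] at hmem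
  have hle : ⁅S.comap σ, S.comap σ⁆ ≤ H := by
    rw [Subgroup.commutator_le]
    intro a ha b hb
    obtain ⟨a', ha', ea⟩ := ha
    obtain ⟨b', hb', eb⟩ := hb
    rw [E.cm_eq, ← ea, ← eb, ← E.cm_eq, commutatorElement_def]
    exact mul_mem (mul_mem (mul_mem ha' hb') (inv_mem ha')) (inv_mem hb')
  have h1 := hinj _ (hle hmem) (by rw [map_pow, hw, one_pow])
  exact hnd (hord ▸ orderOf_dvd_of_pow_eq_one h1)

end Cfsg.Agent.CharB.PSLMult
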