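import Cfsg.Agent.CharB.PSLMult.PPrime
import Cfsg.Agent.CharB.PSLMult.Unitri
import Cfsg.Agent.CharB.PSLMult.Cover

/-!
The Schur multiplier of `SL_n(q)`, `n ≥ 3`, outside `(3,2)`, `(3,4)`, `(4,2)`, is trivial (helper28).
-/

set_option autoImplicit false

namespace Cfsg.Agent.CharB.PSLMult

open Matrix

universe v

variable {F : Type v} [Field F] [Finite F]

theorem good_of (n : ℕ) (hn : 3 ≤ n) (h3 : n = 3 → Nat.card F ≠ 2 ∧ Nat.card F ≠ 4)
    (h4 : n = 4 → Nat.card F ≠ 2) : Good (Fin n) F := by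
  haveI := Fintype.ofFinite F
  have hq := Finite.one_lt_card (α := F)
  have key : ∀ i : ℕ, (∀ a : F, a ≠ 0 → a ^ i = 1) → Nat.card F - 1 ∣ i := fun i h => by
    rw [Nat.card_eq_fintype_card]
    exact (FiniteField.forall_pow_eq_one_iff F i).1 fun x => Units.ext (by
      simpa using h x x.ne_zero)
  refine ⟨by simpa using hn, fun h => ?_, fun h => ?_⟩
  · rw [Fintype.card_fin] at h
    by_contra hc
    push Not at hc
    have hd := key 3 hc
    rcases (Nat.dvd_prime Nat.prime_three).1 hd with e | e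
    · exact (h3 h).1 (by omega)
    · exact (h3 h).2 (by omega)
  · rw [Fintype.card_fin] at h
    by_cases hb : ∃ b : F, b ≠ 0 ∧ b ^ 2 ≠ 1
    · exact Or.inl hb
    push Not at hb
    refine Or.inr fun h2 => h4 h ?_
    rcases (Nat.dvd_prime Nat.prime_two).1 (key 2 hb) with e | e
    · omega
    · exfalso
      have h3' : Nat.card F = 3 := by omega
      have h0 : ((Nat.card F : ℕ) : F) = 0 := by
        rw [Nat.card_eq_fintype_card, FiniteField.cast_card_eq_zero]
      rw [h3'] at h0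
      exact one_ne_zero (α := F) (by push_cast at h0; linear_combination h0 - h2)

/-- **`SL_n(q)` has trivial Schur multiplier.** -/
theorem multiplier_SL (n : ℕ) (hn : 3 ≤ n) (h3 : n = 3 → Nat.card F ≠ 2 ∧ Nat.card F ≠ 4)
    (h4 : n = 4 → Nat.card F ≠ 2) :
    Cfsg.HasCyclicSchurMultiplier (SpecialLinearGroup (Fin n) F) 1 := by
  obtain ⟨p, hp⟩ := CharP.exists F
  have hpp : p.Prime :=
    (CharP.char_is_prime_or_zero F p).resolve_right (CharP.char_ne_zero_of_finite F p)
  refine Cfsg.Agent.Schur.hasCyclicSchurMultiplier_one_of_forall fun Γ _ _ σ hσ => ?_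
  have E : PExt p σ := by
    obtain ⟨k, rfl⟩ : ∃ k, n = k + 1 := ⟨n - 1, by omega⟩
    exact ⟨hpp, hσ.1, hσ.2.1, not_dvd_card_ker (good_of _ hn h3 h4) hσ hpp⟩
  have hQ : Group.IsPerfect (SpecialLinearGroup (Fin n) F) :=
    ⟨LinearGroup.commutator_SL_eq_top (by simpa using hn)⟩
  have hΓ : commutator Γ = ⊤ := (Cfsg.Agent.Schur.isPerfect_of_stem hQ σ hσ).commutator_eq_top
  refine ptriv_fin n (by omega) Γ σ E (eq_top_of_sup_center hΓ ?_)
  rw [eq_top_iff]
  intro g _
  have hmap : (Subgroup.closure {g : Γ | Pel p g}).map σ = ⊤ := by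
    refine LinearGroup.eq_top_of_transvection_mem fun i j hij c => ?_
    have hpel : Pel p (SpecialLinearGroup.transvection hij c : SpecialLinearGroup (Fin n) F) := by
      rw [transvection_eq_tv]; exact pel_tv _
    exact ⟨E.pl _ hpel, Subgroup.subset_closure (E.pel_pl _), E.map_pl _⟩
  obtain ⟨a, ha, e⟩ : σ g ∈ (Subgroup.closure {g : Γ | Pel p g}).map σ := hmap ▸ Subgroup.mem_top _
  have hg : g = a * (a⁻¹ * g) := by group
  rw [hg]
  exact Subgroup.mul_mem_sup ha (hσ.2.1 (by simp [MonoidHom.mem_ker, e]))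

end Cfsg.Agent.CharB.PSLMult
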